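import Groth.Agent.GmSeq.PtFun
import Groth.Agent.FieldCd.Acyclic
import Mathlib.CategoryTheory.Abelian.GrothendieckAxioms.Colim
import Mathlib.CategoryTheory.Limits.Constructions.Filtered
import Mathlib.CategoryTheory.Sites.LocallyBijective

/-! sums of skyscrapers as sheaves of functions on points -/

universe u

open CategoryTheory CategoryTheory.Limits AlgebraicGeometry Opposite

namespace Groth.Agent.GmSeq

set_option autoImplicit false
set_option maxHeartbeats 1000000
set_option synthInstance.maxHeartbeats 400000
set_option backward.isDefEq.respectTransparency false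
set_option backward.isDefEq.respectTransparency.types false
set_option linter.style.haveILetI false

section Field

variable (k : Type u) [Field k]

/-- constants as functions on points -/
noncomputable def constToFun :
    (Functor.const (Spec (CommRingCat.of k)).Etaleᵒᵖ).obj (AddCommGrpCat.of (ULift.{u + 1} ℤ)) ⟶
      ptFunPsh (Set.univ : Set (Spec (CommRingCat.of k))) where
  app U := AddCommGrpCat.ofHom
    { toFun := fun m _ => m, map_zero' := rfl, map_add' := fun _ _ => rfl }
  naturality U V g := rfl

/-- the constant sheaf of integers on a field is the sheaf of functions on points -/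
noncomputable def constIsoPtFun : EtCoh.const (Spec (CommRingCat.of k)) ℤ ≅
    ptFun (Set.univ : Set (Spec (CommRingCat.of k))) := by
  let S := Spec (CommRingCat.of k)
  let J := S.smallEtaleTopology
  haveI : Presheaf.IsLocallyInjective J (constToFun k) := ⟨fun {U} m m' h => by
    refine (EtFound.mem_topology_iff _).2 fun x => ?_
    refine ⟨U.unop, 𝟙 _, x, ?_, rfl⟩
    exact congrFun h (⟨x, trivial⟩ : Pts (Set.univ : Set S) U.unop)⟩
  haveI : Presheaf.IsLocallySurjective J (constToFun k) := ⟨fun {U} s => by
    refine (EtFound.mem_topology_iff _).2 fun x => ?_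
    let O : U.left.Opens := ⟨{x}, FieldCd.isOpen_singleton U x⟩
    refine ⟨EtTorLib.openObj U O, EtTorLib.openHom U O, ⟨x, rfl⟩, ⟨s ⟨x, trivial⟩, funext fun v => ?_⟩, rfl⟩
    show s ⟨x, trivial⟩ = s (mapPts _ (EtTorLib.openHom U O) v)
    exact congrArg s (Subtype.ext (Set.mem_singleton_iff.1 v.1.2).symm)⟩
  haveI : IsIso ((presheafToSheaf J AddCommGrpCat.{u + 1}).map (constToFun k)) :=
    (GrothendieckTopology.W_iff (J := J) _).1
      ((GrothendieckTopology.W_iff_isLocallyBijective (J := J) _).2 ⟨inferInstance, inferInstance⟩)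
  exact asIso ((presheafToSheaf J AddCommGrpCat.{u + 1}).map (constToFun k)) ≪≫
    asIso ((sheafificationAdjunction J AddCommGrpCat.{u + 1}).counit.app (ptFun (Set.univ : Set S)))

end Field

section Push

variable {X : Scheme.{u}}

/-- points of the fibre as points of the base change -/
noncomputable def fibPts (x : X) (V : X.Etale)
    (z : Pts (Set.univ : Set (Spec (X.residueField x))) ((EtCoh.bc (X.fromSpecResidueField x)).obj V)) :
    Pts ({x} : Set X) V :=
  ⟨(pullback.fst V.hom (X.fromSpecResidueField x)).base z.1, Set.mem_singleton_iff.2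
    (((Scheme.Hom.comp_apply _ _ z.1).symm.trans
      (congrArg (fun r : ((EtCoh.bc (X.fromSpecResidueField x)).obj V).left ⟶ X => r.base z.1)
        (pullback.condition (f := V.hom) (g := X.fromSpecResidueField x)))).trans
      ((Scheme.Hom.comp_apply _ _ z.1).trans (Scheme.fromSpecResidueField_apply x _)))⟩

theorem bijective_fibPts (x : X) (V : X.Etale) : Function.Bijective (fibPts x V) := by
  constructor
  · intro a b h
    haveI : IsPreimmersion (X.fromSpecResidueField x) := inferInstance
    have hp : IsPreimmersion (pullback.fst V.hom (X.fromSpecResidueField x)) :=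
      MorphismProperty.pullback_fst (P := @IsPreimmersion) V.hom (X.fromSpecResidueField x) this
    exact Subtype.ext ((@Scheme.Hom.isEmbedding _ _ (pullback.fst V.hom (X.fromSpecResidueField x)) hp).injective
      (congrArg Subtype.val h))
  · intro v
    obtain ⟨z, hz, -⟩ := Scheme.Pullback.exists_preimage_pullback (f := V.hom) (g := X.fromSpecResidueField x)
      v.1 (IsLocalRing.closedPoint (X.residueField x))
      ((Set.mem_singleton_iff.1 v.2).trans (Scheme.fromSpecResidueField_apply x _).symm)
    exact ⟨⟨z, trivial⟩, Subtype.ext hz⟩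

/-- functions on the fibre -/
noncomputable def fibEquiv (x : X) (V : X.Etale) : (Pts ({x} : Set X) V → ULift.{u + 1} ℤ) ≃+
    (Pts (Set.univ : Set (Spec (X.residueField x))) ((EtCoh.bc (X.fromSpecResidueField x)).obj V) → ULift.{u + 1} ℤ) where
  toFun s z := s (fibPts x V z)
  invFun t v := t ((Equiv.ofBijective _ (bijective_fibPts x V)).symm v)
  left_inv s := funext fun v => congrArg s ((Equiv.ofBijective _ (bijective_fibPts x V)).apply_symm_apply v)
  right_inv t := funext fun z => congrArg t ((Equiv.ofBijective _ (bijective_fibPts x V)).symm_apply_apply z)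
  map_add' _ _ := rfl

/-- pushed functions on the point are functions on the fibre -/
noncomputable def pushIsoPtFun (x : X) [EtCoh.BCCont (X.fromSpecResidueField x)] :
    (EtCoh.push (X.fromSpecResidueField x)).obj (ptFun (Set.univ : Set (Spec (X.residueField x)))) ≅
      ptFun ({x} : Set X) :=
  (fullyFaithfulSheafToPresheaf _ _).preimageIso
    (NatIso.ofComponents
      (fun V => (fibEquiv x V.unop).toAddCommGrpIso.symm)
      (fun {V V'} g => by
        ext (t : Pts _ ((EtCoh.bc (X.fromSpecResidueField x)).obj V.unop) → ULift.{u + 1} ℤ)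
        refine funext fun v => ?_
        obtain ⟨z, rfl⟩ := (bijective_fibPts x V'.unop).2 v
        have h : mapPts ({x} : Set X) g.unop (fibPts x V'.unop z) =
            fibPts x V.unop (mapPts Set.univ ((EtCoh.bc (X.fromSpecResidueField x)).map g.unop) z) :=
          Subtype.ext (((Scheme.Hom.comp_apply _ _ z.1).symm.trans
            (congrArg (fun r : ((EtCoh.bc (X.fromSpecResidueField x)).obj V'.unop).left ⟶ V.unop.left => r.base z.1)
              (EtCoh.isPullback_bc_map (X.fromSpecResidueField x) g.unop).w.symm)).trans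
            (Scheme.Hom.comp_apply _ _ z.1))
        show t (mapPts Set.univ ((EtCoh.bc (X.fromSpecResidueField x)).map g.unop)
            ((Equiv.ofBijective _ (bijective_fibPts x V'.unop)).symm (fibPts x V'.unop z))) =
          t ((Equiv.ofBijective _ (bijective_fibPts x V.unop)).symm (mapPts _ g.unop (fibPts x V'.unop z)))
        rw [h]
        exact congrArg t ((congrArg _ ((Equiv.ofBijective _ (bijective_fibPts x V'.unop)).symm_apply_apply z)).trans
          ((Equiv.ofBijective _ (bijective_fibPts x V.unop)).symm_apply_apply _).symm)))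

/-- skyscrapers -/
noncomputable def skyIso (x : X) :
    (EtCoh.push (X.fromSpecResidueField x)).obj (EtCoh.const (Spec (X.residueField x)) ℤ) ≅ ptFun ({x} : Set X) :=
  (EtCoh.push (X.fromSpecResidueField x)).mapIso (constIsoPtFun (X.residueField x)) ≪≫ pushIsoPtFun x

end Push

section Incl

variable {X : Scheme.{u}} (P : Set X)

/-- extension by zero, on values -/
noncomputable def extVal (x : X) (V : X.Etale) (s : Pts ({x} : Set X) V → ULift.{u + 1} ℤ) (v : Pts P V) :
    ULift.{u + 1} ℤ :=
  letI := Classical.propDecidable (V.hom.base v.1 = x)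
  if h : V.hom.base v.1 = x then s ⟨v.1, h⟩ else 0

theorem extVal_pos (x : X) (V : X.Etale) (s : Pts ({x} : Set X) V → ULift.{u + 1} ℤ) (v : Pts P V)
    (h : V.hom.base v.1 = x) : extVal P x V s v = s ⟨v.1, h⟩ := dif_pos h

theorem extVal_neg (x : X) (V : X.Etale) (s : Pts ({x} : Set X) V → ULift.{u + 1} ℤ) (v : Pts P V)
    (h : V.hom.base v.1 ≠ x) : extVal P x V s v = 0 := dif_neg h

theorem extVal_add (x : X) (V : X.Etale) (a b : Pts ({x} : Set X) V → ULift.{u + 1} ℤ) (v : Pts P V) :
    extVal P x V (a + b) v = extVal P x V a v + extVal P x V b v := by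
  by_cases h : V.hom.base v.1 = x
  · exact (extVal_pos P x V _ v h).trans
      (congrArg₂ (· + ·) (extVal_pos P x V a v h) (extVal_pos P x V b v h)).symm
  · exact (extVal_neg P x V _ v h).trans
      ((congrArg₂ (· + ·) (extVal_neg P x V a v h) (extVal_neg P x V b v h)).trans (add_zero 0)).symm

/-- extension by zero -/
noncomputable def inclPt (x : X) : ptFun ({x} : Set X) ⟶ ptFun P :=
  ObjectProperty.homMk
    { app := fun V => AddCommGrpCat.ofHom (AddMonoidHom.mk'
        (fun s v => extVal P x V.unop s v) (fun a b => funext fun v => extVal_add P x V.unop a b v))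
      naturality := fun V V' g => by
        ext (s : Pts ({x} : Set X) V.unop → ULift.{u + 1} ℤ)
        funext v
        show extVal P x V'.unop (fun w => s (mapPts _ g.unop w)) v = extVal P x V.unop s (mapPts P g.unop v)
        by_cases h : V'.unop.hom.base v.1 = x
        · exact (extVal_pos P x V'.unop _ v h).trans
            (extVal_pos P x V.unop s (mapPts P g.unop v) ((hom_base g.unop v.1).trans h)).symm
        · exact (extVal_neg P x V'.unop _ v h).trans
            (extVal_neg P x V.unop s (mapPts P g.unop v) (fun h' => h ((hom_base g.unop v.1).symm.trans h'))).symm }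

/-- restriction to a point -/
noncomputable def projPt (x : X) (hx : x ∈ P) : ptFun P ⟶ ptFun ({x} : Set X) :=
  ObjectProperty.homMk
    { app := fun V => AddCommGrpCat.ofHom
        { toFun := fun s v => s ⟨v.1, by rw [Set.mem_singleton_iff.1 v.2]; exact hx⟩
          map_zero' := rfl
          map_add' := fun _ _ => rfl }
      naturality := fun V V' g => rfl }

theorem inclPt_app (x : X) (V : X.Etale) (s : (ptFun ({x} : Set X)).obj.obj (op V)) (v : Pts P V) :
    (∀ h : V.hom.base v.1 = x, (inclPt P x).hom.app (op V) s v = s ⟨v.1, h⟩) ∧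
      (V.hom.base v.1 ≠ x → (inclPt P x).hom.app (op V) s v = 0) :=
  ⟨fun h => extVal_pos P x V s v h, fun h => extVal_neg P x V s v h⟩

theorem inclPt_projPt_self (x : X) (hx : x ∈ P) : inclPt P x ≫ projPt P x hx = 𝟙 _ := by
  apply ObjectProperty.hom_ext
  ext V s
  exact funext fun v => (inclPt_app P x V.unop s ⟨v.1, by rw [Set.mem_singleton_iff.1 v.2]; exact hx⟩).1 v.2

theorem inclPt_projPt_ne (x y : X) (hy : y ∈ P) (hne : x ≠ y) : inclPt P x ≫ projPt P y hy = 0 := by
  apply ObjectProperty.hom_ext
  ext V s
  exact funext fun v => (inclPt_app P x V.unop s ⟨v.1, by rw [Set.mem_singleton_iff.1 v.2]; exact hy⟩).2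
    (fun h => hne (h.symm.trans (Set.mem_singleton_iff.1 v.2)))

/-- functions with finitely many points sum up -/
theorem sum_incl_proj (T : Finset P) (V : X.Etale) (s : (ptFun P).obj.obj (op V)) (v : Pts P V)
    (h : s v ≠ 0 → (⟨V.hom.base v.1, v.2⟩ : P) ∈ T) :
    (∑ x ∈ T, (inclPt P x.1).hom.app (op V) ((projPt P x.1 x.2).hom.app (op V) s)) v = s v := by
  classical
  rw [Finset.sum_apply, Finset.sum_eq_single (⟨V.hom.base v.1, v.2⟩ : P)]
  · exact (inclPt_app P _ V _ v).1 rfl
  · exact fun b _ hb => (inclPt_app P _ V _ v).2 fun e => hb (Subtype.ext e.symm)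
  · intro hn
    refine ((inclPt_app P _ V _ v).1 rfl).trans ?_
    by_contra hs
    exact hn (h hs)

/-- the finite sums inject -/
theorem mono_finite_sum {ι : Type u} [Finite ι] (a : ι → P) (ha : Function.Injective a)
    (F : ι → EtCoh.Ab X) (e : ∀ i, F i ≅ ptFun ({(a i).1} : Set X)) :
    Mono (Sigma.desc fun i => (e i).hom ≫ inclPt P (a i).1) := by
  classical
  haveI := Fintype.ofFinite ι
  let π : ∀ i, (∐ F) ⟶ F i := fun i => Sigma.desc fun j => if h : j = i then eqToHom (by rw [h]) else 0
  have hsum : (∑ i, π i ≫ Sigma.ι F i) = 𝟙 (∐ F) := by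
    refine Sigma.hom_ext _ _ fun j => ?_
    rw [Preadditive.comp_sum, Category.comp_id, Finset.sum_eq_single j]
    · simp [π]
    · intro b _ hb
      simp [π, dif_neg (Ne.symm hb)]
    · intro h; exact absurd (Finset.mem_univ j) h
  have hπ : ∀ i, (Sigma.desc fun j => (e j).hom ≫ inclPt P (a j).1) ≫ projPt P (a i).1 (a i).2 ≫ (e i).inv = π i := by
    intro i
    refine Sigma.hom_ext _ _ fun j => ?_
    rw [Sigma.ι_desc_assoc, Sigma.ι_desc, Category.assoc]
    by_cases h : j = i
    · subst h
      rw [dif_pos rfl, ← Category.assoc (inclPt P _), inclPt_projPt_self, Category.id_comp, Iso.hom_inv_id]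
      rfl
    · rw [dif_neg h, ← Category.assoc (inclPt P _),
        inclPt_projPt_ne P _ _ _ (fun e' => h (ha (Subtype.ext e'))), zero_comp, comp_zero]
  refine Preadditive.mono_of_cancel_zero _ fun q hq => ?_
  rw [← Category.comp_id q, ← hsum, Preadditive.comp_sum]
  exact Finset.sum_eq_zero fun i _ => by rw [← hπ i, ← Category.assoc, ← Category.assoc, hq]; simp

/-- the direct sum injects in functions on points -/
theorem mono_desc {c : Cofan fun x : P => (EtCoh.push (X.fromSpecResidueField x.1)).obj
      (EtCoh.const (Spec (X.residueField x.1)) ℤ)} (hc : IsColimit c) (Φ : c.pt ⟶ ptFun P)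
    (hΦ : ∀ x : P, c.inj x ≫ Φ = (skyIso x.1).hom ≫ inclPt P x.1) : Mono Φ := by
  classical
  let G := fun x : P => (EtCoh.push (X.fromSpecResidueField x.1)).obj (EtCoh.const (Spec (X.residueField x.1)) ℤ)
  let D := CoproductsFromFiniteFiltered.liftToFinsetObj (Discrete.functor G)
  let Λ := AsSmall.{u + 1} (Finset (Discrete P))
  haveI : IsFiltered Λ := IsFiltered.of_equivalence AsSmall.equiv
  haveI : IsConnected Λ := IsFiltered.isConnected Λ
  let D' : Λ ⥤ EtCoh.Ab X := AsSmall.down ⋙ D
  haveI : AsSmall.down (C := Finset (Discrete P)) |>.Final := inferInstanceAs (AsSmall.equiv.inverse).Final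
  let cc := CoproductsFromFiniteFiltered.liftToFinsetColimitCocone (Discrete.functor G)
  let Φ' : colimit D ⟶ ptFun P := (cc.isColimit.coconePointUniqueUpToIso hc).hom ≫ Φ
  have hΦ' : ∀ (T : Finset (Discrete P)) (x : T), Sigma.ι (fun x : T => (Discrete.functor G).obj x.1) x ≫
      colimit.ι D T ≫ Φ' = (skyIso x.1.as.1).hom ≫ inclPt P x.1.as.1 := fun T x => by
    have h1 := cc.isColimit.comp_coconePointUniqueUpToIso_hom hc x.1
    have h2 : Sigma.ι (fun x : T => (Discrete.functor G).obj x.1) x ≫ colimit.ι D T = cc.cocone.ι.app x.1 := by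
      show _ = Sigma.ι (fun y : ({x.1} : Finset (Discrete P)) => (Discrete.functor G).obj y.1) ⟨x.1, _⟩ ≫
        colimit.ι D {x.1}
      rw [← colimit.w D (homOfLE (Finset.singleton_subset_iff.2 x.2) : ({x.1} : Finset (Discrete P)) ⟶ T)]
      simp [D]
    rw [← Category.assoc, h2]
    show cc.cocone.ι.app x.1 ≫ (cc.isColimit.coconePointUniqueUpToIso hc).hom ≫ Φ = _
    rw [← Category.assoc, h1]
    exact hΦ x.1.as
  let α : D' ⟶ (Functor.const Λ).obj (ptFun P) :=
    { app := fun T => colimit.ι D (AsSmall.down.obj T) ≫ Φ'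
      naturality := fun T T' f => by
        show D.map (AsSmall.down.map f) ≫ colimit.ι D _ ≫ Φ' = (colimit.ι D _ ≫ Φ') ≫ 𝟙 _
        rw [colimit.w_assoc, Category.comp_id] }
  haveI : ∀ T, Mono (α.app T) := fun T => by
    have e : α.app T = Sigma.desc fun x : (AsSmall.down.obj T : Finset (Discrete P)) =>
        (skyIso x.1.as.1).hom ≫ inclPt P x.1.as.1 :=
      Sigma.hom_ext _ _ fun x => (hΦ' _ x).trans (colimit.ι_desc (Cofan.mk _ (fun y : (AsSmall.down.obj T : Finset (Discrete P)) =>
        (skyIso y.1.as.1).hom ≫ inclPt P y.1.as.1)) ⟨x⟩).symm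
    rw [e]
    exact mono_finite_sum P (fun x : (AsSmall.down.obj T : Finset (Discrete P)) => x.1.as)
      (fun a b h => Subtype.ext (Discrete.ext h)) _ fun x => skyIso x.1.as.1
  haveI : Mono α := NatTrans.mono_of_mono_app α
  have hm : Mono Φ' := colim.map_mono' α
    ((Functor.Final.isColimitWhiskerEquiv AsSmall.down _).symm (colimit.isColimit D))
    (isColimitConstCocone Λ (ptFun P)) Φ' fun T => (Category.comp_id (α.app T)).symm
  have : Φ = (cc.isColimit.coconePointUniqueUpToIso hc).inv ≫ Φ' := by simp [Φ']
  rw [this]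
  exact mono_comp _ _

end Incl

end Groth.Agent.GmSeq
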