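import Groth.Agent.GmSeq.Finite
import Groth.Agent.GmSeq.Sum

/-! the fundamental exact sequence of the multiplicative group -/

universe u

open CategoryTheory CategoryTheory.Limits AlgebraicGeometry Opposite

namespace Groth.Agent.GmSeq

set_option autoImplicit false
set_option maxHeartbeats 1000000
set_option synthInstance.maxHeartbeats 400000
set_option backward.isDefEq.respectTransparency false
set_option backward.isDefEq.respectTransparency.types false
set_option linter.style.haveILetI false

variable {X : Scheme.{u}}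

/-- sum of local sections of sheaves -/
theorem app_sum {F G : EtCoh.Ab X} (φ : F ⟶ G) (V : X.Etale) {ι : Type*} (T : Finset ι) (t : ι → F.obj.obj (op V)) :
    φ.hom.app (op V) (∑ i ∈ T, t i) = ∑ i ∈ T, φ.hom.app (op V) (t i) :=
  map_sum (φ.hom.app (op V)).hom t T

/-- a morphism whose sections lift locally is killed by a cokernel -/
theorem comp_eq_zero_of_locally_lift {A B P Q : EtCoh.Ab X} (a : A ⟶ P) (b : B ⟶ P) (π : P ⟶ Q) (hb : b ≫ π = 0)
    (h : ∀ (V : X.Etale) (s : A.obj.obj (op V)) (p : V.left), ∃ (V' : X.Etale) (g : V' ⟶ V) (v : V'.left)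
      (t : B.obj.obj (op V')), b.hom.app (op V') t = P.obj.map g.op (a.hom.app (op V) s) ∧ g.left.base v = p) :
    a ≫ π = 0 := by
  apply ObjectProperty.hom_ext
  ext V s
  refine EtTorLib.eq_zero_of_locally (π.hom.app V (a.hom.app V s)) fun p => ?_
  obtain ⟨V', g, v, t, ht, hv⟩ := h V.unop s p
  refine ⟨V', g, v, ?_, hv⟩
  refine (NatTrans.naturality_apply π.hom g.op (a.hom.app V s)).symm.trans ?_
  refine (congrArg (π.hom.app (op V')) ht.symm).trans ?_
  exact congrArg (fun q => q.hom.app (op V') t) hb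

variable [IsLocallyNoetherian X] [FactStalks X] [IsIntegral X]

omit [FactStalks X] [IsIntegral X] in
theorem exists_finite_fibre (V : X.Etale) (x : X) (p : V.left) :
    ∃ U : V.left.Opens, p ∈ U ∧ {v : V.left | v ∈ U ∧ V.hom.base v = x}.Finite := by
  haveI : AlgebraicGeometry.Etale V.hom := V.prop
  obtain ⟨A, hA, hpA, -⟩ := exists_isAffineOpen_mem_and_subset (U := (⊤ : V.left.Opens)) (x := p) trivial
  haveI : IsAffine A.toScheme := hA
  let f : A.toScheme ⟶ X := A.ι ≫ V.hom
  haveI : AlgebraicGeometry.Etale f := inferInstanceAs (AlgebraicGeometry.Etale (A.ι ≫ (V.hom : V.left ⟶ X)))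
  haveI : QuasiCompact f :=
    haveI : QuasiCompact (f ≫ terminal.from X) := inferInstance
    QuasiCompact.of_comp f (terminal.from X)
  refine ⟨A, hpA, ((f.finite_preimage_singleton x).image A.ι.base).subset ?_⟩
  rintro v ⟨hv, hx⟩
  exact ⟨⟨v, hv⟩, (Scheme.Hom.comp_apply A.ι V.hom _).trans hx, rfl⟩

omit [IsLocallyNoetherian X] [FactStalks X] [IsIntegral X] in
theorem hom_hom_apply {A B : EtCoh.Ab X} (e : A ≅ B) (V : X.Etale) (s : B.obj.obj (op V)) :
    e.hom.hom.app (op V) (e.inv.hom.app (op V) s) = s :=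
  congrArg (fun q => q.hom.app (op V) s) e.inv_hom_id

theorem mono_and_cokernel_iso
    (c : Cofan fun x : ↥(P1 X) => (EtCoh.push (X.fromSpecResidueField x.1)).obj
      (EtCoh.const (Spec (X.residueField x.1)) ℤ))
    (hc : IsColimit c) :
    Mono (EtLim.GmPush (etaHom X)) ∧ Nonempty (cokernel (EtLim.GmPush (etaHom X)) ≅ c.pt) := by
  classical
  let Φ : c.pt ⟶ ptFun (P1 X) := hc.desc (Cofan.mk _ fun x => (skyIso x.1).hom ≫ inclPt (P1 X) x.1)
  have hΦ : ∀ x, c.inj x ≫ Φ = (skyIso x.1).hom ≫ inclPt (P1 X) x.1 := fun x => hc.fac _ ⟨x⟩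
  haveI : Mono Φ := mono_desc (P1 X) hc Φ hΦ
  -- every divisor is a sum
  have h1 : divMap ≫ cokernel.π Φ = 0 := by
    refine comp_eq_zero_of_locally_lift divMap Φ _ (cokernel.condition Φ) fun V f p => ?_
    obtain ⟨U, hpU, hfin⟩ := locally_finite_divMap V f p
    let V' := EtTorLib.openObj V U
    let g := EtTorLib.openHom V U
    let s := (ptFun (P1 X)).obj.map g.op (divMap.hom.app (op V) f)
    let T : Finset ↥(P1 X) := hfin.toFinset.image fun v => ⟨V.hom.base v.1, v.2⟩
    let t : c.pt.obj.obj (op V') := ∑ x ∈ T, (c.inj x).hom.app (op V')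
      ((skyIso x.1).inv.hom.app (op V') ((projPt (P1 X) x.1 x.2).hom.app (op V') s))
    refine ⟨V', g, ⟨p, hpU⟩, t, ?_, rfl⟩
    refine (app_sum Φ V' T _).trans ?_
    refine (Finset.sum_congr rfl fun x _ => ?_).trans (funext fun v => sum_incl_proj (P1 X) T V' s v fun hne => ?_)
    · refine (congrArg (fun q => q.hom.app (op V') ((skyIso x.1).inv.hom.app (op V')
        ((projPt (P1 X) x.1 x.2).hom.app (op V') s))) (hΦ x)).trans ?_
      exact congrArg ((inclPt (P1 X) x.1).hom.app (op V')) (hom_hom_apply (skyIso x.1) V' _)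
    · refine Finset.mem_image.2 ⟨mapPts (P1 X) g v, hfin.mem_toFinset.2 ⟨v.1.2, hne⟩, Subtype.ext ?_⟩
      exact hom_base g v.1
  have h2 : Φ ≫ cokernel.π divMap = 0 := by
    refine hc.hom_ext fun ⟨x⟩ => ?_
    show c.inj x ≫ Φ ≫ cokernel.π divMap = c.inj x ≫ 0
    rw [← Category.assoc, hΦ x, comp_zero]
    refine comp_eq_zero_of_locally_lift ((skyIso x.1).hom ≫ inclPt (P1 X) x.1) divMap _
      (cokernel.condition divMap) fun V s p => ?_
    obtain ⟨U, hpU, hfin⟩ := exists_finite_fibre V x.1 p
    obtain ⟨V', g, v, f, hf, hv⟩ := locally_divMap V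
      (((skyIso x.1).hom ≫ inclPt (P1 X) x.1).hom.app (op V) s) p
      ⟨U, hpU, (hfin.preimage Subtype.val_injective.injOn).subset fun w hw => ⟨hw.1, by_contra fun h => hw.2
        ((inclPt_app (P1 X) x.1 V ((skyIso x.1).hom.hom.app (op V) s) w).2 h)⟩⟩
    exact ⟨V', g, v, f, hf, hv⟩
  let hk := Abelian.monoIsKernelOfCokernel (CokernelCofork.ofπ (cokernel.π Φ) (cokernel.condition Φ))
    (cokernelIsCokernel Φ)
  obtain ⟨g, hg⟩ := KernelFork.IsLimit.lift' hk divMap h1
  change g ≫ Φ = divMap at hg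
  have hgepi : Epi g := by
    haveI : Mono (Abelian.image.ι (divMap (X := X))) := inferInstance
    let l : c.pt ⟶ Abelian.image (divMap (X := X)) := kernel.lift _ Φ h2
    have hl : l ≫ Abelian.image.ι divMap = Φ := kernel.lift_ι _ _ _
    have hfac : g ≫ l = Abelian.factorThruImage divMap := by
      rw [← cancel_mono (Abelian.image.ι divMap), Category.assoc, hl, hg, Abelian.image.fac]
    haveI : Mono l := mono_of_mono_fac hl
    haveI : Epi l := epi_of_epi_fac hfac
    haveI : IsIso l := isIso_of_mono_of_epi l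
    haveI : Epi (g ≫ l) := hfac ▸ inferInstance
    have : g = (g ≫ l) ≫ inv l := by simp
    rw [this]
    infer_instance
  haveI := mono_GmPush (X := X)
  have hw : EtLim.GmPush (etaHom X) ≫ g = 0 := by
    rw [← cancel_mono Φ, Category.assoc, hg, GmPush_divMap, zero_comp]
  let S := ShortComplex.mk (EtLim.GmPush (etaHom X)) g hw
  have hS : S.Exact := by
    rw [S.exact_iff_epi_kernel_lift]
    refine EtTorLib.epi_of_locally' _ fun V k p => ?_
    have hz : divMap.hom.app (op V) ((kernel.ι g).hom.app (op V) k) = 0 := by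
      have := congrArg (fun q => q.hom.app (op V) k)
        (show kernel.ι g ≫ divMap = 0 by rw [← hg, kernel.condition_assoc, zero_comp])
      exact this
    obtain ⟨V', e, v, s, hs, hv⟩ := locally_of_divMap_eq_zero V _ hz p
    refine ⟨V', e, v, s, ?_, hv⟩
    have hinj : Function.Injective ((kernel.ι g).hom.app (op V')) := by
      haveI : Mono (kernel.ι g).hom := inferInstanceAs (Mono ((sheafToPresheaf _ _).map (kernel.ι g)))
      exact (AddCommGrpCat.mono_iff_injective _).1 (((NatTrans.mono_iff_mono_app _).1 ‹_›) _)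
    refine hinj ?_
    have hlift := congrArg (fun q => q.hom.app (op V') s)
      (kernel.lift_ι g (EtLim.GmPush (etaHom X)) hw)
    refine hlift.trans ?_
    exact hs.trans (NatTrans.naturality_apply (kernel.ι g).hom e.op k).symm
  exact ⟨inferInstance, ⟨IsColimit.coconePointUniqueUpToIso (cokernelIsCokernel _) hS.gIsCokernel⟩⟩

end Groth.Agent.GmSeq

namespace Groth.Agent.GmSeq

/-- the sequence with any description of the codimension one points -/
theorem mono_and_cokernel_iso' {X : Scheme.{u}} [IsLocallyNoetherian X] [IsIntegral X]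
    (hreg : ∀ x : X, IsRegularLocalRing (X.presheaf.stalk x)) (P : Set X) (hP : P = P1 X)
    (c : Cofan fun x : ↥P => (EtCoh.push (X.fromSpecResidueField x.1)).obj
      (EtCoh.const (Spec (X.residueField x.1)) ℤ))
    (hc : IsColimit c) :
    Mono (EtLim.GmPush (etaHom X)) ∧ Nonempty (cokernel (EtLim.GmPush (etaHom X)) ≅ c.pt) := by
  haveI : FactStalks X := factStalks_of_regular hreg
  subst hP
  exact mono_and_cokernel_iso c hc

theorem coheight_one_iff {X : Scheme.{u}} (x : X) :
    ringKrullDim (X.presheaf.stalk x) = 1 ↔ Order.coheight x = 1 := by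
  rw [ringKrullDim_stalk_eq_coheight]
  exact_mod_cast Iff.rfl

end Groth.Agent.GmSeq
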