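import Groth.Agent.GmSeq.Curve
import Groth.Agent.FieldCd.ClosedPts

/-! vanishing of the cohomology of the multiplicative group on smooth curves -/

universe u

open CategoryTheory CategoryTheory.Limits AlgebraicGeometry Opposite CategoryTheory.Abelian

namespace Groth.Agent.GmSeq

set_option autoImplicit false
set_option maxHeartbeats 1000000
set_option synthInstance.maxHeartbeats 400000
set_option backward.isDefEq.respectTransparency false
set_option backward.isDefEq.respectTransparency.types false
set_option linter.style.haveILetI false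

theorem subsingleton_H_Gm_curve (k : Type u) [Field k] [IsAlgClosed k] (X : Scheme.{u})
    (f : X ⟶ Spec (CommRingCat.of k)) [Smooth f] [IsSeparated f] [QuasiCompact f] [IsIntegral X]
    (hdim : topologicalKrullDim X = 1) (q : ℕ) (hq : 2 ≤ q) :
    Subsingleton (EtCoh.H X (EtCoh.Gm X) q) := by
  haveI : CompactSpace X := QuasiCompact.compactSpace_of_compactSpace f
  haveI : QuasiSeparatedSpace X := quasiSeparatedSpace_of_quasiSeparated f
  let G := fun x : {x : ↥X // IsClosed ({x} : Set ↥X)} =>
    (EtCoh.push (X.fromSpecResidueField x.1)).obj (EtCoh.const (Spec (X.residueField x.1)) ℤ)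
  obtain ⟨hm, ⟨e⟩⟩ := mono_and_cokernel_iso_curve f hdim (Cofan.mk (∐ G) (Sigma.ι G)) (coproductIsCoproduct G)
  haveI := hm
  let j := EtLim.GmPush (X.fromSpecStalk (genericPoint ↥X))
  let S := ShortComplex.mk j (cokernel.π j) (cokernel.condition j)
  have hS : S.ShortExact := { exact := ShortComplex.exact_of_g_is_cokernel _ (cokernelIsCokernel _) }
  obtain ⟨n, rfl⟩ := Nat.exists_eq_add_of_le hq
  haveI h2 : Subsingleton (EtCoh.H X S.X₂ (2 + n)) :=
    FieldCd.subsingleton_H_push_Gm_generic k X f hdim (2 + n) (by omega)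
  have h3 : Subsingleton (EtCoh.H X S.X₃ (1 + n)) :=
    FieldCd.subsingleton_H_of_iso e.symm (1 + n)
      (FieldCd.subsingleton_H_cofan (1 + n) _ (coproductIsCoproduct G)
        fun x => FieldCd.subsingleton_H_push_closedPoint f x.1 x.2 _ (1 + n) (by omega))
  refine subsingleton_of_forall_eq 0 fun x => ?_
  obtain ⟨z, rfl⟩ := Ext.covariant_sequence_exact₁ _ hS x (@Subsingleton.elim _ h2 _ _)
    (show (1 + n) + 1 = 2 + n by omega)
  rw [@Subsingleton.elim _ h3 z 0, Ext.zero_comp]

end Groth.Agent.GmSeq
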