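import Groth.Agent.GmSeq.Div
import Groth.Agent.WeilExt.Extend
import Groth.Agent.AlgSpDec.OneFlat

/-! rational functions on an integral etale scheme -/

universe u

open CategoryTheory CategoryTheory.Limits AlgebraicGeometry Opposite IsLocalRing

namespace Groth.Agent.GmSeq

set_option autoImplicit false
set_option maxHeartbeats 1000000
set_option synthInstance.maxHeartbeats 400000
set_option backward.isDefEq.respectTransparency false
set_option backward.isDefEq.respectTransparency.types false
set_option linter.style.haveILetI false

variable {X : Scheme.{u}} [IsLocallyNoetherian X] [FactStalks X] [IsIntegral X]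

omit [IsIntegral X] in
instance isLocallyNoetherian_left (V : X.Etale) : IsLocallyNoetherian V.left :=
  haveI : AlgebraicGeometry.Etale V.hom := V.prop
  @LocallyOfFiniteType.isLocallyNoetherian _ X (V.hom : V.left ⟶ X) inferInstance inferInstance

omit [IsIntegral X] in
/-- integral neighbourhoods -/
theorem exists_integral_nhd (V : X.Etale) (p : V.left) :
    ∃ W : V.left.Opens, p ∈ W ∧ IsIntegral (EtTorLib.openObj V W).left := by
  haveI := isLocallyNoetherian_left V
  haveI : ∀ y : V.left, _root_.IsReduced (V.left.presheaf.stalk y) := fun y => inferInstance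
  haveI : IsReduced V.left := isReduced_of_isReduced_stalk V.left
  obtain ⟨W, hp, hW, -⟩ := WeilExt.exists_integral_component (fun y => isDomain_stalk V y) p
  exact ⟨W, hp, hW⟩

variable (V : X.Etale) [IsIntegral V.left]

omit [FactStalks X] in
theorem hom_genericPoint : V.hom.base (genericPoint V.left) = genericPoint X := by
  have h0 : Order.coheight (genericPoint V.left) = 0 :=
    Order.coheight_eq_zero.2 fun b _ => (genericPoint_spec V.left).specializes trivial
  rw [← coheight_hom, Order.coheight_eq_zero] at h0
  have hle : genericPoint X ⤳ V.hom.base (genericPoint V.left) := (genericPoint_spec X).specializes trivial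
  have hge : V.hom.base (genericPoint V.left) ⤳ genericPoint X := h0 hle
  exact (hge.antisymm hle).eq

theorem fracHom_functionField (v : V.left) :
    fracHom V v V.left.functionField = V.left.fromSpecStalk (genericPoint V.left) :=
  Scheme.SpecMap_stalkSpecializes_fromSpecStalk ((genericPoint_spec V.left).specializes trivial)

/-- the point with values in the function field -/
noncomputable abbrev gen : Spec (CommRingCat.of V.left.functionField) ⟶ ((EtCoh.bc (etaHom X)).obj V).left :=
  @genHom X _ _ _ V (genericPoint V.left) V.left.functionField _
    (stalkFunctionFieldAlgebra V.left (genericPoint V.left)) inferInstance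

theorem gen_fst : gen V ≫ pullback.fst V.hom (etaHom X) = V.left.fromSpecStalk (genericPoint V.left) :=
  (@genHom_fst X _ _ _ V (genericPoint V.left) V.left.functionField _
    (stalkFunctionFieldAlgebra V.left (genericPoint V.left)) inferInstance).trans (fracHom_functionField V _)

/-- values in the function field -/
noncomputable def ρ : Γ(((EtCoh.bc (etaHom X)).obj V).left, ⊤) →+* V.left.functionField :=
  ((gen V).appTop ≫ (Scheme.ΓSpecIso (CommRingCat.of V.left.functionField)).hom).hom

theorem genHom_fst_functionField (v : V.left) :
    genHom V v V.left.functionField ≫ pullback.fst V.hom (etaHom X) =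
      V.left.fromSpecStalk (genericPoint V.left) :=
  (genHom_fst V v V.left.functionField).trans (fracHom_functionField V v)

theorem genHom_eq (v : V.left) :
    genHom V v V.left.functionField = gen V :=
  bc_ext V _ _ ((genHom_fst_functionField V v).trans (gen_fst V).symm)

theorem valRing_functionField (v : V.left) : valRing V v V.left.functionField = ρ V := by
  unfold ρ valRing
  rw [genHom_eq V v]

/-- the order is the order of the rational function -/
theorem ordAt_eq_ord (v : Pts (P1 X) V) (f : (Γ(((EtCoh.bc (etaHom X)).obj V).left, ⊤))ˣ) :
    ordAt V v (Additive.ofMul f) = Scheme.ord (ρ V f.1) v.1 := by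
  haveI : IsLocallyNoetherian V.left := isLocallyNoetherian_left V
  have hv : Order.coheight v.1 = 1 := (coheight_hom V v.1).symm.trans v.2
  let A := V.left.presheaf.stalk v.1
  let e : FractionRing A →+* V.left.functionField := IsFractionRing.lift (A := A) (K := FractionRing A)
    (g := algebraMap A V.left.functionField) (IsFractionRing.injective A V.left.functionField)
  have he : ∀ a, e (algebraMap A (FractionRing A) a) = algebraMap A V.left.functionField a :=
    fun a => IsFractionRing.lift_algebraMap _ a
  have hval : valUnit V v.1 V.left.functionField f =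
      Units.map (e : _ →* _) (valUnit V v.1 (FractionRing A) f) := by
    refine Units.ext ?_
    have h := valRing_map (𝟙 V) v.1 v.1 rfl (FractionRing A) V.left.functionField e (fun a => ?_) f.1
    · refine Eq.trans ?_ h
      rw [CategoryTheory.Functor.map_id]
      rfl
    · refine (he a).trans (congrArg _ ?_)
      rw [show V.left.presheaf.stalkSpecializes (specializes_of_eq (rfl : (𝟙 V : V ⟶ V).left.base v.1 = v.1)) =
        𝟙 _ from TopCat.Presheaf.stalkSpecializes_refl _ _]
      exact (congrArg (fun r => (CommRingCat.Hom.hom r) a) (Scheme.Hom.stalkMap_id V.left v.1)).symm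
  have h1 : ordZ A V.left.functionField (Additive.ofMul (valUnit V v.1 V.left.functionField f)) =
      ordAt V v (Additive.ofMul f) :=
    (congrArg (fun q => ordZ A _ (Additive.ofMul q)) hval).trans
      (ordZ_map A (FractionRing A) A V.left.functionField (RingHom.id A) e he (fun ϖ h => h) _)
  have h2 := (ordZ_eq_iff A V.left.functionField (valUnit V v.1 V.left.functionField f) _).1 rfl
  rw [← h1]
  refine ((Scheme.ord_eq_iff hv ?_).2 ?_).symm
  · rw [← valRing_functionField V v.1]
    exact (valUnit V v.1 V.left.functionField f).ne_zero
  · rw [← valRing_functionField V v.1]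
    exact h2

theorem ρ_fst (s : Γ(V.left, ⊤)) :
    ρ V ((pullback.fst V.hom (etaHom X)).appTop s) = V.left.presheaf.germ ⊤ (genericPoint V.left) trivial s := by
  show (((pullback.fst V.hom (etaHom X)).appTop ≫ (gen V).appTop) ≫
    (Scheme.ΓSpecIso (CommRingCat.of V.left.functionField)).hom).hom s = _
  have h1 : (pullback.fst V.hom (etaHom X)).appTop ≫ (gen V).appTop =
      (V.left.fromSpecStalk (genericPoint V.left)).appTop :=
    (Scheme.Hom.comp_appTop _ _).symm.trans (congrArg (fun r => Scheme.Hom.appTop r) (gen_fst V))
  have h2 : (V.left.fromSpecStalk (genericPoint V.left)).appTop ≫ (Scheme.ΓSpecIso _).hom =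
      V.left.presheaf.germ ⊤ (genericPoint V.left) trivial := by
    rw [Scheme.fromSpecStalk_appTop]
    simp
  exact congrArg (fun r => (CommRingCat.Hom.hom r) s)
    ((congrArg (fun r => r ≫ (Scheme.ΓSpecIso (CommRingCat.of V.left.functionField)).hom) h1).trans h2)

omit [IsLocallyNoetherian X] [FactStalks X] [IsIntegral V.left] in
theorem fst_injective : Function.Injective (pullback.fst V.hom (etaHom X)).base := by
  have h : IsPreimmersion (pullback.fst V.hom (etaHom X)) :=
    haveI : IsPreimmersion (X.fromSpecStalk (genericPoint X)) := inferInstance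
    MorphismProperty.pullback_fst (P := @IsPreimmersion) V.hom (etaHom X) this
  exact (@Scheme.Hom.isEmbedding _ _ (pullback.fst V.hom (etaHom X)) h).injective

omit [FactStalks X] in
theorem subsingleton_bc : Subsingleton ((EtCoh.bc (etaHom X)).obj V).left := by
  refine ⟨fun a b => fst_injective V ?_⟩
  have h : ∀ z : ((EtCoh.bc (etaHom X)).obj V).left,
      (pullback.fst V.hom (etaHom X)).base z = genericPoint V.left := fun z => by
    have hz : Order.coheight ((pullback.fst V.hom (etaHom X)).base z) = 0 := by
      rw [← coheight_hom]
      refine Order.coheight_eq_zero.2 fun b hb => ?_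
      have hmem : (etaHom X).base ((pullback.snd V.hom (etaHom X)).base z) ⤳ genericPoint X := by
        have : (etaHom X).base ((pullback.snd V.hom (etaHom X)).base z) ∈ Set.range (etaHom X).base := ⟨_, rfl⟩
        rwa [Scheme.range_fromSpecStalk] at this
      have e : V.hom.base ((pullback.fst V.hom (etaHom X)).base z) =
          (etaHom X).base ((pullback.snd V.hom (etaHom X)).base z) :=
        ((Scheme.Hom.comp_apply _ _ z).symm.trans (congrArg (fun r : ((EtCoh.bc (etaHom X)).obj V).left ⟶ X => r.base z) (pullback.condition (f := V.hom) (g := etaHom X)))).trans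
          (Scheme.Hom.comp_apply _ _ z)
      show V.hom.base _ ⤳ b
      rw [e]
      exact hmem.trans ((genericPoint_spec X).specializes trivial)
    rw [Order.coheight_eq_zero] at hz
    have hle : genericPoint V.left ⤳ (pullback.fst V.hom (etaHom X)).base z :=
      (genericPoint_spec V.left).specializes trivial
    have hge : (pullback.fst V.hom (etaHom X)).base z ⤳ genericPoint V.left := hz hle
    exact (hge.antisymm hle).eq
  rw [h a, h b]

theorem ρ_injective : Function.Injective (ρ V) := by
  haveI := subsingleton_bc V
  haveI : IsReduced ((EtCoh.bc (etaHom X)).obj V).left := by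
    haveI : AlgebraicGeometry.Etale ((EtCoh.bc (etaHom X)).obj V).hom := ((EtCoh.bc (etaHom X)).obj V).prop
    haveI : _root_.IsReduced (X.presheaf.stalk (genericPoint X)) :=
      inferInstanceAs (_root_.IsReduced X.functionField)
    haveI : IsReduced (Spec (X.presheaf.stalk (genericPoint X))) := inferInstance
    exact @AlgSpDec.isReduced_of_etaleMor _ (Spec (X.presheaf.stalk (genericPoint X)))
      (((EtCoh.bc (etaHom X)).obj V).hom : _ ⟶ Spec (X.presheaf.stalk (genericPoint X))) inferInstance this
  refine (injective_iff_map_eq_zero _).2 fun h hh => (basicOpen_eq_bot_iff h).1 (eq_bot_iff.2 fun z hz => ?_)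
  let g := gen V
  have hz' : IsLocalRing.closedPoint V.left.functionField ∈ g ⁻¹ᵁ (((EtCoh.bc (etaHom X)).obj V).left.basicOpen h) := by
    show g.base _ ∈ ((EtCoh.bc (etaHom X)).obj V).left.basicOpen h
    rw [Subsingleton.elim (g.base _) z]
    exact hz
  rw [Scheme.preimage_basicOpen_top] at hz'
  have h0 : g.appTop h = 0 := (Scheme.ΓSpecIso (CommRingCat.of V.left.functionField)).commRingCatIsoToRingEquiv.injective
    (hh.trans (map_zero _).symm)
  rw [h0, Scheme.basicOpen_zero] at hz'
  exact hz'.elim

/-- rational functions are units of the generic fibre on small neighbourhoods -/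
theorem isUnit_fst_of_germ_ne_zero (b : Γ(V.left, ⊤))
    (hb : V.left.presheaf.germ ⊤ (genericPoint V.left) trivial b ≠ 0) :
    IsUnit ((pullback.fst V.hom (etaHom X)).appTop b) := by
  haveI := subsingleton_bc V
  suffices h : ((EtCoh.bc (etaHom X)).obj V).left.basicOpen ((pullback.fst V.hom (etaHom X)).appTop b) = ⊤ from
    RingedSpace.isUnit_of_isUnit_germ _ _ _ fun x _ => (Scheme.mem_basicOpen_top _ _ x).1
      (show x ∈ ((EtCoh.bc (etaHom X)).obj V).left.basicOpen _ from h.symm ▸ trivial)
  refine (Scheme.preimage_basicOpen_top (pullback.fst V.hom (etaHom X)) b).symm.trans (eq_top_iff.2 ?_)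
  intro z _
  show (pullback.fst V.hom (etaHom X)).base z ∈ V.left.basicOpen b
  have hz : z = (gen V).base (IsLocalRing.closedPoint V.left.functionField) :=
    @Subsingleton.elim ((EtCoh.bc (etaHom X)).obj V).left _ _ _
  have h1 : (pullback.fst V.hom (etaHom X)).base z =
      V.left.fromSpecStalk (genericPoint V.left) (IsLocalRing.closedPoint V.left.functionField) := by
    rw [hz]
    exact (Scheme.Hom.comp_apply (gen V) (pullback.fst V.hom (etaHom X)) _).symm.trans
      (congrArg (fun r : Spec (CommRingCat.of V.left.functionField) ⟶ V.left =>
        r.base (IsLocalRing.closedPoint V.left.functionField)) (gen_fst V))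
  have this : V.left.fromSpecStalk (genericPoint V.left) (IsLocalRing.closedPoint V.left.functionField) =
      genericPoint V.left := Scheme.fromSpecStalk_closedPoint
  rw [h1]
  rw [this, Scheme.mem_basicOpen_top]
  exact isUnit_iff_ne_zero.2 hb

end Groth.Agent.GmSeq
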