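import Groth.Agent.GmSeq.Seq
import Groth.Agent.S1535
import Groth.Agent.AlgSpPts.Dim

/-! the fundamental sequence on a smooth curve -/

universe u

open CategoryTheory CategoryTheory.Limits AlgebraicGeometry Opposite

namespace Groth.Agent.GmSeq

set_option autoImplicit false
set_option maxHeartbeats 1000000
set_option synthInstance.maxHeartbeats 400000
set_option backward.isDefEq.respectTransparency false
set_option backward.isDefEq.respectTransparency.types false

theorem regular_of_smooth {k : Type u} [Field k] {X : Scheme.{u}} (f : X ⟶ Spec (CommRingCat.of k)) [Smooth f]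
    (x : X) : IsRegularLocalRing (X.presheaf.stalk x) := by
  letI : X.Over (Spec (CommRingCat.of k)) := ⟨f⟩
  haveI : Smooth (X ↘ Spec (CommRingCat.of k)) := inferInstanceAs (Smooth f)
  exact Groth.Agent.S1535.result k X x

theorem closed_iff_coheight_one {X : Scheme.{u}} [IsIntegral X] (hdim : topologicalKrullDim ↥X = 1) (x : X) :
    IsClosed ({x} : Set X) ↔ Order.coheight x = 1 := by
  have hd : Order.krullDim X = 1 := (AlgSpPts.topologicalKrullDim_eq_krullDim X).symm.trans hdim
  have hle : ∀ y : X, Order.coheight y ≤ 1 := fun y => by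
    have h := Order.coheight_le_krullDim y
    rw [hd] at h
    exact_mod_cast h
  have hgen : genericPoint X ⤳ x := (genericPoint_spec X).specializes trivial
  constructor
  · intro hx
    refine le_antisymm (hle x) (Order.one_le_iff_pos.2 (pos_iff_ne_zero.2 fun h0 => ?_))
    rw [Order.coheight_eq_zero] at h0
    have hge : x ⤳ genericPoint X := h0 hgen
    have he : x = genericPoint X := (Specializes.antisymm hge hgen).eq
    have hall : ∀ z : X, z = x := fun z => by
      have hz : x ⤳ z := he ▸ (genericPoint_spec X).specializes trivial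
      exact Set.mem_singleton_iff.1 (hx.closure_eq ▸ specializes_iff_mem_closure.1 hz)
    haveI : Subsingleton X := ⟨fun a b => (hall a).trans (hall b).symm⟩
    haveI : Nonempty X := ⟨x⟩
    rw [Order.krullDim_eq_zero] at hd
    exact zero_ne_one hd
  · intro hx
    refine isClosed_of_closure_subset fun y hy => ?_
    by_contra hne
    have hlt : y < x := lt_iff_le_not_ge.mpr ⟨specializes_iff_mem_closure.2 hy,
      fun h => hne (Specializes.antisymm (h : y ⤳ x) (specializes_iff_mem_closure.2 hy)).eq⟩
    have h2 := (Order.coheight_add_one_le hlt).trans (hle y)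
    rw [hx] at h2
    exact absurd h2 (by norm_num)

end Groth.Agent.GmSeq

namespace Groth.Agent.GmSeq

/-- the fundamental sequence on a smooth curve -/
theorem mono_and_cokernel_iso_curve {k : Type u} [Field k] {X : Scheme.{u}} (f : X ⟶ Spec (CommRingCat.of k))
    [Smooth f] [QuasiCompact f] [IsIntegral X] (hdim : topologicalKrullDim ↥X = 1)
    (c : Cofan fun x : {x : ↥X // IsClosed ({x} : Set ↥X)} =>
      (EtCoh.push (X.fromSpecResidueField x.1)).obj (EtCoh.const (Spec (X.residueField x.1)) ℤ))
    (hc : IsColimit c) :
    Mono (EtLim.GmPush (X.fromSpecStalk (genericPoint ↥X))) ∧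
      Nonempty (cokernel (EtLim.GmPush (X.fromSpecStalk (genericPoint ↥X))) ≅ c.pt) := by
  haveI : IsLocallyNoetherian X := LocallyOfFiniteType.isLocallyNoetherian f
  exact mono_and_cokernel_iso' (regular_of_smooth f) {x | IsClosed ({x} : Set X)}
    (Set.ext fun x => closed_iff_coheight_one hdim x) c hc

end Groth.Agent.GmSeq
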