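import Mathlib.RingTheory.OrderOfVanishing.Basic
import Mathlib.RingTheory.OrderOfVanishing.Noetherian
import Mathlib.RingTheory.DiscreteValuationRing.Basic

/-! orders of elements of the fraction field of a discrete valuation ring -/

universe u v

namespace Groth.Agent.GmSeq

set_option autoImplicit false

variable (A : Type u) [CommRing A] [IsDomain A] [IsDiscreteValuationRing A]

section

variable (K : Type v) [Field K] [Algebra A K] [IsFractionRing A K]

/-- the order as an additive function on units -/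
noncomputable def ordZ : Additive Kˣ →+ ℤ :=
  MonoidHom.toAdditiveLeft ((WithZero.unitsWithZeroEquiv (α := Multiplicative ℤ)).toMonoidHom.comp
    (Units.map (Ring.ordFrac A (K := K)).toMonoidHom))

theorem ordZ_eq_iff (x : Kˣ) (n : ℤ) :
    ordZ A K (Additive.ofMul x) = n ↔ Ring.ordFrac A (x : K) = (Multiplicative.ofAdd n : Multiplicative ℤ) := by
  show Multiplicative.toAdd (WithZero.unitsWithZeroEquiv (Units.map (Ring.ordFrac A (K := K)).toMonoidHom x)) = n ↔ _
  have h : (↑(WithZero.unitsWithZeroEquiv (Units.map (Ring.ordFrac A (K := K)).toMonoidHom x)) : WithZero (Multiplicative ℤ)) =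
      Ring.ordFrac A (x : K) := by
    simp [WithZero.unitsWithZeroEquiv]
  rw [← h, WithZero.coe_inj, ← Multiplicative.toAdd.injective.eq_iff, toAdd_ofAdd]

theorem exists_unit_zpow {ϖ : A} (hϖ : Irreducible ϖ) (x : Kˣ) :
    ∃ (n : ℤ) (w : Aˣ), (x : K) = algebraMap A K w * (algebraMap A K ϖ) ^ n := by
  obtain ⟨a, b, hb, hab⟩ := IsFractionRing.div_surjective (A := A) (x : K)
  have hb0 := nonZeroDivisors.ne_zero hb
  have ha0 : a ≠ 0 := fun h => x.ne_zero (by rw [← hab, h, map_zero, zero_div])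
  obtain ⟨i, s, rfl⟩ := IsDiscreteValuationRing.eq_unit_mul_pow_irreducible ha0 hϖ
  obtain ⟨j, t, rfl⟩ := IsDiscreteValuationRing.eq_unit_mul_pow_irreducible hb0 hϖ
  have hp : algebraMap A K ϖ ≠ 0 := fun h => hϖ.ne_zero (IsFractionRing.injective A K (by rw [h, map_zero]))
  refine ⟨(i : ℤ) - j, s / t, ?_⟩
  rw [← hab, map_mul, map_mul, map_pow, map_pow, zpow_sub₀ hp, zpow_natCast, zpow_natCast,
    show ((s / t : Aˣ) : A) = s * ↑t⁻¹ by rw [div_eq_mul_inv, Units.val_mul], map_mul, map_units_inv]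
  field_simp

theorem ordZ_eq {ϖ : A} (hϖ : Irreducible ϖ) (x : Kˣ) (n : ℤ) (w : Aˣ)
    (hx : (x : K) = algebraMap A K w * (algebraMap A K ϖ) ^ n) : ordZ A K (Additive.ofMul x) = n := by
  rw [ordZ_eq_iff, hx, map_mul, map_zpow₀, Ring.ordFrac_irreducible hϖ, Ring.ordFrac_of_isUnit w.isUnit, one_mul,
    ← WithZero.exp_zsmul, zsmul_one, Int.cast_id]
  rfl

end

/-- the order is preserved by a field map over a map of valuation rings preserving uniformisers -/
theorem ordZ_map (K : Type v) [Field K] [Algebra A K] [IsFractionRing A K]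
    (B : Type u) [CommRing B] [IsDomain B] [IsDiscreteValuationRing B]
    (L : Type v) [Field L] [Algebra B L] [IsFractionRing B L]
    (φ : A →+* B) (e : K →+* L) (he : ∀ a, e (algebraMap A K a) = algebraMap B L (φ a))
    (hφ : ∀ ϖ : A, Irreducible ϖ → Irreducible (φ ϖ)) (x : Kˣ) :
    ordZ B L (Additive.ofMul (Units.map (e : K →* L) x)) = ordZ A K (Additive.ofMul x) := by
  obtain ⟨ϖ, hϖ⟩ := IsDiscreteValuationRing.exists_irreducible A
  obtain ⟨n, w, hx⟩ := exists_unit_zpow A K hϖ x
  rw [ordZ_eq A K hϖ x n w hx]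
  refine ordZ_eq B L (hφ ϖ hϖ) _ n (Units.map (φ : A →* B) w) ?_
  show e (x : K) = algebraMap B L (φ w) * _
  rw [hx, map_mul, map_zpow₀, he, he]

end Groth.Agent.GmSeq
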