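import Groth.Agent.GmSeq.PtFun
import Groth.Agent.GmSeq.OrdZ
import Groth.Agent.CDiv6.Factorial
import Groth.Agent.WeilExt.Basic
import Groth.Agent.S2821
import Groth.Agent.S0120
import Groth.Agent.MorLib.WeightFlat
import Groth.Prelude.Def_EtLim

/-! the divisor map on the small etale site of a scheme with factorial étale local rings -/

universe u

open CategoryTheory CategoryTheory.Limits AlgebraicGeometry Opposite IsLocalRing

namespace Groth.Agent.GmSeq

set_option autoImplicit false
set_option maxHeartbeats 1000000
set_option synthInstance.maxHeartbeats 400000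
set_option backward.isDefEq.respectTransparency false
set_option backward.isDefEq.respectTransparency.types false
set_option linter.style.haveILetI false

/-- factoriality of the local rings of all étale schemes over `X` -/
class FactStalks (X : Scheme.{u}) : Prop where
  out : ∀ (V : X.Etale) (v : V.left),
    IsDomain (V.left.presheaf.stalk v) ∧ UniqueFactorizationMonoid (V.left.presheaf.stalk v)

/-- codimension one points -/
abbrev P1 (X : Scheme.{u}) : Set X := {x | Order.coheight x = 1}

variable {X : Scheme.{u}} [IsLocallyNoetherian X] [FactStalks X]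

instance isDomain_stalk (V : X.Etale) (v : V.left) : IsDomain (V.left.presheaf.stalk v) :=
  (FactStalks.out V v).1

theorem isNormal (V : X.Etale) : Pi1.IsNormalScheme V.left := fun v => by
  haveI := (FactStalks.out V v).2
  exact ⟨inferInstance, inferInstance⟩

omit [FactStalks X] in
theorem coheight_hom (V : X.Etale) (v : V.left) : Order.coheight (V.hom.base v) = Order.coheight v := by
  haveI : AlgebraicGeometry.Etale V.hom := V.prop
  have h := Groth.Agent.S0120.result (Y := X) (V.hom : V.left ⟶ X) v
  rw [ringKrullDim_stalk_eq_coheight, ringKrullDim_stalk_eq_coheight] at h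
  exact_mod_cast h.symm

instance isDVR_stalk (V : X.Etale) (v : Pts (P1 X) V) : IsDiscreteValuationRing (V.left.presheaf.stalk v.1) := by
  haveI := (FactStalks.out V v.1).2
  haveI : AlgebraicGeometry.Etale V.hom := V.prop
  let f : V.left ⟶ X := V.hom
  haveI : AlgebraicGeometry.Etale f := V.prop
  haveI : IsLocallyNoetherian V.left := LocallyOfFiniteType.isLocallyNoetherian f
  refine CDiv6.isDVR_of_dim_eq_one _ ?_
  rw [ringKrullDim_stalk_eq_coheight, ← coheight_hom, show Order.coheight (V.hom.base v.1) = 1 from v.2]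
  rfl

/-- regular schemes have factorial étale local rings -/
theorem factStalks_of_regular {Y : Scheme.{u}} [IsLocallyNoetherian Y]
    (h : ∀ x : Y, IsRegularLocalRing (Y.presheaf.stalk x)) : FactStalks Y := ⟨fun V v =>
  haveI : AlgebraicGeometry.Etale V.hom := V.prop
  haveI : IsRegularLocalRing (V.left.presheaf.stalk v) :=
    WeilExt.isRegularLocalRing_stalk (S := Y) h (V.hom : V.left ⟶ Y) v
  Groth.Agent.S2821.result _⟩

variable [IsIntegral X]

/-- the generic point morphism -/
noncomputable abbrev etaHom (X : Scheme.{u}) [IsIntegral X] : Spec (X.presheaf.stalk (genericPoint X)) ⟶ X :=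
  X.fromSpecStalk (genericPoint X)

section Lift

variable (V : X.Etale) (v : V.left) (L : Type u) [Field L] [Algebra (V.left.presheaf.stalk v) L]
  [IsFractionRing (V.left.presheaf.stalk v) L]

/-- the morphism from the fraction field of a local ring -/
noncomputable def fracHom : Spec (CommRingCat.of L) ⟶ V.left :=
  Spec.map (CommRingCat.ofHom (algebraMap (V.left.presheaf.stalk v) L)) ≫ V.left.fromSpecStalk v

theorem coheight_fracHom (z : Spec (CommRingCat.of L)) : Order.coheight ((fracHom V v L).base z) = 0 := by
  let Q : PrimeSpectrum (V.left.presheaf.stalk v) :=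
    PrimeSpectrum.comap (algebraMap (V.left.presheaf.stalk v) L) z
  have hQ : Q.asIdeal = ⊥ := by
    have hz : z.asIdeal = ⊥ := (Ideal.eq_bot_or_top (K := L) z.asIdeal).resolve_right z.isPrime.ne_top
    show z.asIdeal.comap (algebraMap (V.left.presheaf.stalk v) L) = ⊥
    rw [hz]
    exact (RingHom.injective_iff_ker_eq_bot _).1 (IsFractionRing.injective _ L)
  have e : (fracHom V v L).base z = V.left.fromSpecStalk v Q := Scheme.Hom.comp_apply _ _ _
  have h := CDiv6.height_primeOf (CDiv6.fromSpecStalk_specializes Q)
  rw [CDiv6.primeOf_fromSpecStalk, hQ, Ideal.height_bot] at h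
  rw [e]
  exact h.symm

omit [IsLocallyNoetherian X] [FactStalks X] in
theorem exists_lift_eta {T : Type u} [Field T] (μ : Spec (CommRingCat.of T) ⟶ X)
    (h : μ.base (IsLocalRing.closedPoint T) = genericPoint X) :
    ∃ ν : Spec (CommRingCat.of T) ⟶ Spec (X.presheaf.stalk (genericPoint X)), ν ≫ etaHom X = μ := by
  have hs : μ.base (IsLocalRing.closedPoint T) ⤳ genericPoint X := specializes_of_eq h
  refine ⟨Spec.map (Scheme.stalkClosedPointTo μ) ≫ Spec.map (X.presheaf.stalkSpecializes hs), ?_⟩
  rw [Category.assoc, Scheme.SpecMap_stalkSpecializes_fromSpecStalk]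
  exact Scheme.Spec_stalkClosedPointTo_fromSpecStalk μ

theorem exists_toEta : ∃ ν : Spec (CommRingCat.of L) ⟶ Spec (X.presheaf.stalk (genericPoint X)),
    ν ≫ etaHom X = fracHom V v L ≫ V.hom := by
  refine exists_lift_eta _ ?_
  have h0 : Order.coheight ((fracHom V v L ≫ V.hom).base (IsLocalRing.closedPoint L)) = 0 := by
    refine (congrArg Order.coheight (Scheme.Hom.comp_apply (fracHom V v L) V.hom _)).trans ?_
    exact (coheight_hom V _).trans (coheight_fracHom V v L _)
  rw [Order.coheight_eq_zero] at h0
  have hle : genericPoint X ⤳ (fracHom V v L ≫ V.hom).base (IsLocalRing.closedPoint L) :=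
    (genericPoint_spec X).specializes trivial
  have hge : (fracHom V v L ≫ V.hom).base (IsLocalRing.closedPoint L) ⤳ genericPoint X := h0 hle
  exact (hge.antisymm hle).eq

/-- the point with values in the fraction field of the generic fibre -/
noncomputable def genHom : Spec (CommRingCat.of L) ⟶ ((EtCoh.bc (etaHom X)).obj V).left :=
  pullback.lift (fracHom V v L) (exists_toEta V v L).choose (exists_toEta V v L).choose_spec.symm

theorem genHom_fst : genHom V v L ≫ pullback.fst V.hom (etaHom X) = fracHom V v L := pullback.lift_fst _ _ _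

omit [IsLocallyNoetherian X] [FactStalks X] in
theorem bc_ext {T : Scheme.{u}} (a b : T ⟶ ((EtCoh.bc (etaHom X)).obj V).left)
    (h : a ≫ pullback.fst V.hom (etaHom X) = b ≫ pullback.fst V.hom (etaHom X)) : a = b :=
  pullback.hom_ext h ((cancel_mono (etaHom X)).1 (by
    rw [Category.assoc, Category.assoc, ← pullback.condition, reassoc_of% h]))

/-- values of functions on the generic fibre in the fraction field of a local ring -/
noncomputable def valRing : Γ(((EtCoh.bc (etaHom X)).obj V).left, ⊤) →+* L :=
  ((genHom V v L).appTop ≫ (Scheme.ΓSpecIso (CommRingCat.of L)).hom).hom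

/-- values of units -/
noncomputable def valUnit : (Γ(((EtCoh.bc (etaHom X)).obj V).left, ⊤))ˣ →* Lˣ := Units.map (valRing V v L : _ →* L)

end Lift

/-- compatibility of values -/
theorem valRing_map {V' V : X.Etale} (g : V' ⟶ V) (v' : V'.left) (v : V.left) (hv : g.left.base v' = v)
    (L : Type u) [Field L] [Algebra (V.left.presheaf.stalk v) L] [IsFractionRing (V.left.presheaf.stalk v) L]
    (L' : Type u) [Field L'] [Algebra (V'.left.presheaf.stalk v') L'] [IsFractionRing (V'.left.presheaf.stalk v') L']
    (e : L →+* L') (he : ∀ a, e (algebraMap (V.left.presheaf.stalk v) L a) =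
      algebraMap (V'.left.presheaf.stalk v') L'
        ((V.left.presheaf.stalkSpecializes (specializes_of_eq hv) ≫ g.left.stalkMap v') a))
    (f : Γ(((EtCoh.bc (etaHom X)).obj V).left, ⊤)) :
    valRing V' v' L' (((EtCoh.bc (etaHom X)).map g).left.appTop f) = e (valRing V v L f) := by
  subst hv
  have hcomm : Spec.map (CommRingCat.ofHom e) ≫ fracHom V (g.left.base v') L = fracHom V' v' L' ≫ g.left := by
    rw [fracHom, fracHom, Category.assoc, ← Scheme.SpecMap_stalkMap_fromSpecStalk, ← Spec.map_comp_assoc,
      ← Spec.map_comp_assoc]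
    congr 2
    ext a
    refine (he a).trans ?_
    show algebraMap _ L' (g.left.stalkMap v' (V.left.presheaf.stalkSpecializes _ a)) = _
    rw [show V.left.presheaf.stalkSpecializes (specializes_of_eq (rfl : g.left.base v' = g.left.base v')) =
      𝟙 _ from TopCat.Presheaf.stalkSpecializes_refl _ _]
    rfl
  have h : genHom V' v' L' ≫ ((EtCoh.bc (etaHom X)).map g).left =
      Spec.map (CommRingCat.ofHom e) ≫ genHom V (g.left.base v') L := by
    refine bc_ext V _ _ ?_
    rw [Category.assoc, Category.assoc, genHom_fst, hcomm]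
    have h2 : ((EtCoh.bc (etaHom X)).map g).left ≫ pullback.fst V.hom (etaHom X) =
        pullback.fst V'.hom (etaHom X) ≫ g.left := (EtCoh.isPullback_bc_map (etaHom X) g).w
    rw [h2, reassoc_of% (genHom_fst V' v' L')]
  show ((((EtCoh.bc (etaHom X)).map g).left.appTop ≫ (genHom V' v' L').appTop) ≫ _).hom f = _
  rw [← Scheme.Hom.comp_appTop, h, Scheme.Hom.comp_appTop, Category.assoc, Scheme.ΓSpecIso_naturality]
  rfl

/-- the order of a unit of the generic fibre at a codimension one point -/
noncomputable def ordAt (V : X.Etale) (v : Pts (P1 X) V) :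
    Additive (Γ(((EtCoh.bc (etaHom X)).obj V).left, ⊤))ˣ →+ ℤ :=
  (ordZ (V.left.presheaf.stalk v.1) (FractionRing (V.left.presheaf.stalk v.1))).comp
    (MonoidHom.toAdditive (valUnit V v.1 (FractionRing (V.left.presheaf.stalk v.1))))

theorem irreducible_stalkMap {V' V : X.Etale} (g : V' ⟶ V) (v' : Pts (P1 X) V') (v : V.left)
    [IsDiscreteValuationRing (V.left.presheaf.stalk v)]
    (hv : g.left.base v'.1 = v) {ϖ : V.left.presheaf.stalk v} (hϖ : Irreducible ϖ) :
    Irreducible ((V.left.presheaf.stalkSpecializes (specializes_of_eq hv) ≫ g.left.stalkMap v'.1).hom ϖ) := by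
  subst hv
  rw [show V.left.presheaf.stalkSpecializes (specializes_of_eq (rfl : g.left.base v'.1 = g.left.base v'.1)) =
      𝟙 _ from TopCat.Presheaf.stalkSpecializes_refl _ _]
  show Irreducible ((g.left.stalkMap v'.1).hom ϖ)
  haveI : AlgebraicGeometry.Etale g.left := EtFound.etale_left g
  refine IsDiscreteValuationRing.irreducible_iff_uniformizer _ |>.2 ?_
  have h := MorLib.WT.map_maximalIdeal_stalkMap g.left v'.1
  rw [← h]
  show Ideal.map _ (maximalIdeal (V.left.presheaf.stalk (g.left.base v'.1))) = _
  rw [(IsDiscreteValuationRing.irreducible_iff_uniformizer ϖ).1 hϖ, Ideal.map_span, Set.image_singleton]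

theorem ordAt_map {V' V : X.Etale} (g : V' ⟶ V) (v' : Pts (P1 X) V')
    (f : (Γ(((EtCoh.bc (etaHom X)).obj V).left, ⊤))ˣ) :
    ordAt V' v' (Additive.ofMul (Units.map (((EtCoh.bc (etaHom X)).map g).left.appTop.hom : _ →* _) f)) =
      ordAt V (mapPts (P1 X) g v') (Additive.ofMul f) := by
  let v := mapPts (P1 X) g v'
  let φ : V.left.presheaf.stalk v.1 →+* V'.left.presheaf.stalk v'.1 :=
    (V.left.presheaf.stalkSpecializes (specializes_of_eq (rfl : g.left.base v'.1 = v.1)) ≫ g.left.stalkMap v'.1).hom
  haveI : IsLocalHom φ := by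
    show IsLocalHom (CommRingCat.Hom.hom (_ ≫ g.left.stalkMap v'.1))
    rw [show V.left.presheaf.stalkSpecializes (specializes_of_eq (rfl : g.left.base v'.1 = v.1)) =
        𝟙 _ from TopCat.Presheaf.stalkSpecializes_refl _ _]
    exact inferInstanceAs (IsLocalHom (g.left.stalkMap v'.1).hom)
  have hinj : Function.Injective φ := by
    refine (injective_iff_map_eq_zero φ).2 fun a ha => ?_
    by_contra hne
    obtain ⟨ϖ, hϖ⟩ := IsDiscreteValuationRing.exists_irreducible (V.left.presheaf.stalk v.1)
    obtain ⟨i, s, rfl⟩ := IsDiscreteValuationRing.eq_unit_mul_pow_irreducible hne hϖ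
    rw [map_mul, map_pow] at ha
    exact mul_ne_zero ((s.isUnit.map φ).ne_zero) (pow_ne_zero _ (irreducible_stalkMap g v' v.1 rfl hϖ).ne_zero) ha
  let e : FractionRing (V.left.presheaf.stalk v.1) →+* FractionRing (V'.left.presheaf.stalk v'.1) :=
    IsFractionRing.map hinj
  have he : ∀ a, e (algebraMap _ _ a) = algebraMap _ _ (φ a) := fun a => IsLocalization.map_eq _ a
  have hval : valUnit V' v'.1 (FractionRing (V'.left.presheaf.stalk v'.1))
      (Units.map (((EtCoh.bc (etaHom X)).map g).left.appTop.hom : _ →* _) f) =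
      Units.map (e : _ →* _) (valUnit V v.1 (FractionRing (V.left.presheaf.stalk v.1)) f) :=
    Units.ext (valRing_map g v'.1 v.1 rfl _ _ e he f.1)
  show ordZ _ _ (Additive.ofMul (valUnit V' v'.1 _ _)) = _
  exact (congrArg (fun q => ordZ _ _ (Additive.ofMul q)) hval).trans
    (ordZ_map _ _ _ _ φ e he (fun ϖ hϖ => irreducible_stalkMap g v' v.1 rfl hϖ) _)

/-- the divisor map -/
noncomputable def divMap : (EtCoh.push (etaHom X)).obj (EtCoh.Gm (Spec (X.presheaf.stalk (genericPoint X)))) ⟶
    ptFun (P1 X) :=
  ObjectProperty.homMk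
    { app := fun V => AddCommGrpCat.ofHom
        (AddMonoidHom.mk' (fun f v => ULift.up (ordAt V.unop v (ULift.down f)))
          fun a b => funext fun v => ULift.ext _ _ (map_add (ordAt V.unop v) a.down b.down))
      naturality := fun V V' g => by
        ext f
        exact funext fun v => ULift.ext _ _ (ordAt_map g.unop v (ULift.down f).toMul) }

theorem divMap_apply (V : X.Etale)
    (f : ((EtCoh.push (etaHom X)).obj (EtCoh.Gm (Spec (X.presheaf.stalk (genericPoint X))))).obj.obj (op V))
    (v : Pts (P1 X) V) : (divMap.hom.app (op V) f v).down = ordAt V v (ULift.down f) := rfl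

end Groth.Agent.GmSeq
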