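import Groth.Agent.GmSeq.FunMap

/-! exactness of the sequence of the multiplicative group -/

universe u

open CategoryTheory CategoryTheory.Limits AlgebraicGeometry Opposite IsLocalRing

namespace Groth.Agent.GmSeq

set_option autoImplicit false
set_option maxHeartbeats 1000000
set_option synthInstance.maxHeartbeats 400000
set_option backward.isDefEq.respectTransparency false
set_option backward.isDefEq.respectTransparency.types false
set_option linter.style.haveILetI false

variable {X : Scheme.{u}} [IsLocallyNoetherian X] [FactStalks X] [IsIntegral X]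

/-- the direct image of the multiplicative group of the generic point -/
noncomputable abbrev jGm (X : Scheme.{u}) [IsIntegral X] : EtCoh.Ab X :=
  (EtCoh.push (etaHom X)).obj (EtCoh.Gm (Spec (X.presheaf.stalk (genericPoint X))))

/-- pull back of a unit -/
noncomputable abbrev toGen (V : X.Etale) (s : (Γ(V.left, ⊤))ˣ) : (Γ(((EtCoh.bc (etaHom X)).obj V).left, ⊤))ˣ :=
  Units.map (RingHom.toMonoidHom (pullback.fst V.hom (etaHom X)).appTop.hom) s

omit [IsLocallyNoetherian X] [FactStalks X] in
theorem GmPush_apply (V : X.Etale) (s : (EtCoh.Gm X).obj.obj (op V)) :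
    ULift.down ((EtLim.GmPush (etaHom X)).hom.app (op V) s) =
      Additive.ofMul (toGen V (Additive.toMul (ULift.down s))) := rfl

omit [IsLocallyNoetherian X] [FactStalks X] in
theorem jGm_map_apply {V' V : X.Etale} (g : V' ⟶ V) (f : (jGm X).obj.obj (op V)) :
    ULift.down ((jGm X).obj.map g.op f) = Additive.ofMul
      (Units.map (RingHom.toMonoidHom ((EtCoh.bc (etaHom X)).map g).left.appTop.hom) (Additive.toMul (ULift.down f))) := rfl

omit [IsLocallyNoetherian X] [FactStalks X] [IsIntegral X] in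
theorem Gm_map_apply {V' V : X.Etale} (g : V' ⟶ V) (f : (EtCoh.Gm X).obj.obj (op V)) :
    ULift.down ((EtCoh.Gm X).obj.map g.op f) = Additive.ofMul
      (Units.map (RingHom.toMonoidHom g.left.appTop.hom) (Additive.toMul (ULift.down f))) := rfl

theorem ρ_toGen (V : X.Etale) [IsIntegral V.left] (s : (Γ(V.left, ⊤))ˣ) :
    ρ V (toGen V s).1 = V.left.presheaf.germ ⊤ (genericPoint V.left) trivial s.1 := ρ_fst V s.1

theorem mono_GmPush : Mono (EtLim.GmPush (etaHom X)) := by
  suffices Mono (EtLim.GmPush (etaHom X)).hom from Sheaf.Hom.mono_of_presheaf_mono _ _ _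
  haveI : ∀ V, Mono ((EtLim.GmPush (etaHom X)).hom.app V) := fun V => by
    refine (AddCommGrpCat.mono_iff_injective _).2 ((injective_iff_map_eq_zero _).2 fun s hs => ?_)
    refine EtTorLib.eq_zero_of_locally _ fun p => ?_
    obtain ⟨W, hp, hW⟩ := exists_integral_nhd V.unop p
    let V' := EtTorLib.openObj V.unop W
    let g := EtTorLib.openHom V.unop W
    haveI : IsIntegral V'.left := hW
    refine ⟨V', g, ⟨p, hp⟩, ?_, rfl⟩
    have h : (EtLim.GmPush (etaHom X)).hom.app (op V') ((EtCoh.Gm X).obj.map g.op s) = 0 := by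
      rw [NatTrans.naturality_apply]
      exact (congrArg ((jGm X).obj.map g.op) hs).trans (map_zero _)
    have h1 := congrArg (fun q => ρ V' (Additive.toMul (ULift.down q)).1) h
    simp only [GmPush_apply] at h1
    have h2 : V'.left.presheaf.germ ⊤ (genericPoint V'.left) trivial
        (Additive.toMul (ULift.down ((EtCoh.Gm X).obj.map g.op s))).1 = 1 :=
      (ρ_toGen V' _).symm.trans (h1.trans (map_one (ρ V')))
    have h3 : (Additive.toMul (ULift.down ((EtCoh.Gm X).obj.map g.op s))).1 = 1 :=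
      germ_injective_of_isIntegral V'.left (U := ⊤) (genericPoint V'.left) trivial
        (h2.trans (map_one (V'.left.presheaf.germ ⊤ (genericPoint V'.left) trivial).hom).symm)
    exact ULift.ext _ _ (Additive.toMul.injective (Units.ext h3))
  exact NatTrans.mono_of_mono_app _

theorem ordAt_toGen (V : X.Etale) (s : (Γ(V.left, ⊤))ˣ) (v : Pts (P1 X) V) :
    ordAt V v (Additive.ofMul (toGen V s)) = 0 := by
  obtain ⟨W, hp, hW⟩ := exists_integral_nhd V v.1
  let V' := EtTorLib.openObj V W
  let g := EtTorLib.openHom V W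
  haveI : IsIntegral V'.left := hW
  let v' : Pts (P1 X) V' := ⟨⟨v.1, hp⟩, by
    show V'.hom.base _ ∈ P1 X
    rw [← hom_base g]; exact v.2⟩
  rw [show v = mapPts (P1 X) g v' from Subtype.ext rfl, ← ordAt_map g v', ordAt_eq_ord]
  have h : Units.map (RingHom.toMonoidHom ((EtCoh.bc (etaHom X)).map g).left.appTop.hom) (toGen V s) =
      toGen V' (Units.map (RingHom.toMonoidHom g.left.appTop.hom) s) := by
    refine Units.ext ?_
    have hw : pullback.fst V'.hom (etaHom X) ≫ g.left =
        ((EtCoh.bc (etaHom X)).map g).left ≫ pullback.fst V.hom (etaHom X) :=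
      ((EtCoh.isPullback_bc_map (etaHom X) g).w).symm
    exact (congrArg (fun r : ((EtCoh.bc (etaHom X)).obj V').left ⟶ V.left => r.appTop.hom s.1) hw).symm
  refine (congrArg (fun q => Scheme.ord q v'.1) ((congrArg (fun u : (Γ(((EtCoh.bc (etaHom X)).obj V').left, ⊤))ˣ => ρ V' u.1) h).trans (ρ_toGen V' _))).trans ?_
  haveI : Nonempty (⊤ : V'.left.Opens) := ⟨⟨v'.1, trivial⟩⟩
  exact Scheme.ord_of_isUnit (Units.map (RingHom.toMonoidHom g.left.appTop.hom) s).isUnit trivial

theorem GmPush_divMap : EtLim.GmPush (etaHom X) ≫ divMap = 0 := by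
  apply ObjectProperty.hom_ext
  ext V s
  exact funext fun v => ULift.ext _ _ (ordAt_toGen V.unop _ v)

/-- sections without divisor come from units locally -/
theorem locally_of_divMap_eq_zero (V : X.Etale) (f : (jGm X).obj.obj (op V))
    (hf : divMap.hom.app (op V) f = 0) (p : V.left) :
    ∃ (V' : X.Etale) (g : V' ⟶ V) (v : V'.left) (s : (EtCoh.Gm X).obj.obj (op V')),
      (EtLim.GmPush (etaHom X)).hom.app (op V') s = (jGm X).obj.map g.op f ∧ g.left.base v = p := by
  obtain ⟨W, hp, hW⟩ := exists_integral_nhd V p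
  let V₁ := EtTorLib.openObj V W
  let g₁ := EtTorLib.openHom V W
  haveI : IsIntegral V₁.left := hW
  let p₁ : V₁.left := ⟨p, hp⟩
  let f₁ := (jGm X).obj.map g₁.op f
  let q : CDiv.KUnits V₁.left := Units.map (RingHom.toMonoidHom (ρ V₁)) (Additive.toMul (ULift.down f₁))
  have hord : ∀ y : V₁.left, y ⤳ p₁ → Order.coheight y = 1 →
      Scheme.ord (q : V₁.left.functionField) y = 0 := by
    intro y _ hy
    let v' : Pts (P1 X) V₁ := ⟨y, (coheight_hom V₁ y).trans hy⟩
    have h := congrFun (show divMap.hom.app (op V₁) f₁ = 0 from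
      (NatTrans.naturality_apply divMap.hom g₁.op f).trans
        ((congrArg ((ptFun (P1 X)).obj.map g₁.op) hf).trans (map_zero _))) v'
    exact (ordAt_eq_ord V₁ v' _).symm.trans (congrArg ULift.down h)
  obtain ⟨⟨a, ha⟩, ⟨b, hb⟩⟩ := (CDiv6.germOf_eq_one_iff p₁ q).1
    (CDiv6.germOf_eq_one_of_ord (isNormal V₁) q hord)
  have hu : IsUnit a := IsUnit.of_mul_eq_one b (IsFractionRing.injective (V₁.left.presheaf.stalk p₁)
    V₁.left.functionField (by rw [map_mul, ha, hb, ← Units.val_mul, mul_inv_cancel, Units.val_one, map_one]))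
  obtain ⟨U, hpU, s, rfl⟩ := V₁.left.presheaf.exists_germ_eq a
  let U' := V₁.left.basicOpen s
  have hpU' : p₁ ∈ U' := (Scheme.mem_basicOpen V₁.left s p₁ hpU).2 hu
  let V' := EtTorLib.openObj V₁ U'
  let g := EtTorLib.openHom V₁ U'
  haveI : Nonempty U' := ⟨⟨p₁, hpU'⟩⟩
  haveI : IsIntegral V'.left := inferInstanceAs (IsIntegral (U' : Scheme.{u}))
  let s' : Γ(V₁.left, U') := V₁.left.presheaf.map (homOfLE (V₁.left.basicOpen_le s)).op s
  have hs' : IsUnit s' := RingedSpace.isUnit_res_basicOpen _ s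
  have htop : (g.left ⁻¹ᵁ U') = ⊤ := U'.ι_preimage_self
  let s₂ : (Γ(V'.left, ⊤))ˣ := Units.map (RingHom.toMonoidHom (g.left.appLE U' ⊤ htop.ge).hom) hs'.unit
  refine ⟨V', g ≫ g₁, ⟨p₁, hpU'⟩, ULift.up (Additive.ofMul s₂), ?_, rfl⟩
  refine ULift.ext _ _ (Additive.toMul.injective (Units.ext (ρ_injective V' ?_)))
  refine (ρ_toGen V' s₂).trans ?_
  rw [op_comp, CategoryTheory.Functor.map_comp]
  show _ = ρ V' ((((EtCoh.bc (etaHom X)).map g).left.appTop) (Additive.toMul (ULift.down f₁)).1)
  rw [ρ_map g, show ρ V₁ (Additive.toMul (ULift.down f₁)).1 = (q : V₁.left.functionField) from rfl, ← ha]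
  have hη : genericPoint V₁.left ∈ U' := ((genericPoint_spec V₁.left).mem_open_set_iff U'.isOpen).2
    ⟨p₁, trivial, hpU'⟩
  have e1 : algebraMap (V₁.left.presheaf.stalk p₁) V₁.left.functionField (V₁.left.presheaf.germ U p₁ hpU s) =
      V₁.left.presheaf.germ U' (genericPoint V₁.left) hη s' := by
    haveI : Nonempty U := ⟨⟨p₁, hpU⟩⟩
    rw [Scheme.algebraMap_germ_eq_germToFunctionField, TopCat.Presheaf.germ_res_apply]
  rw [e1, funMap_germ g U' hη (show genericPoint V'.left ∈ g.left ⁻¹ᵁ U' from htop ▸ trivial)]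
  show V'.left.presheaf.germ ⊤ _ trivial ((g.left.appLE U' ⊤ htop.ge) s') = _
  rw [Scheme.Hom.appLE, CommRingCat.comp_apply, TopCat.Presheaf.germ_res_apply]

end Groth.Agent.GmSeq
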