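import Groth.Agent.GmSeq.Exact

/-! divisors are locally finite, and every locally finite family is locally a divisor -/

universe u

open CategoryTheory CategoryTheory.Limits AlgebraicGeometry Opposite IsLocalRing TopologicalSpace

namespace Groth.Agent.GmSeq

set_option autoImplicit false
set_option maxHeartbeats 1000000
set_option synthInstance.maxHeartbeats 400000
set_option backward.isDefEq.respectTransparency false
set_option backward.isDefEq.respectTransparency.types false
set_option linter.style.haveILetI false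

section Integral

variable {Y : Scheme.{u}} [IsIntegral Y] [IsLocallyNoetherian Y]

/-- rational functions have finitely many zeros and poles near every point -/
theorem exists_finite_ord (q : Y.functionField) (p : Y) :
    ∃ A : Y.Opens, p ∈ A ∧ {y : Y | y ∈ A ∧ Order.coheight y = 1 ∧ Scheme.ord q y ≠ 0}.Finite := by
  obtain ⟨A, hA, hpA, -⟩ := exists_isAffineOpen_mem_and_subset (U := (⊤ : Y.Opens)) (x := p) trivial
  refine ⟨A, hpA, ?_⟩
  by_cases hq : q = 0
  · have hz : ∀ y : Y, Scheme.ord q y = 0 := fun y => by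
      subst hq
      by_cases hy : Order.coheight y = 1
      · simp [Scheme.ord_eq_ordHom_of_coheight_eq_one hy]
      · exact Scheme.ord_eq_zero_of_coheight_neq_one hy _
    exact Set.finite_empty.subset fun y hy => absurd (hz y) hy.2.2
  haveI : Nonempty A := ⟨⟨p, hpA⟩⟩
  haveI := functionField_isFractionRing_of_isAffineOpen Y A hA
  obtain ⟨a, b, hb, hab⟩ := IsFractionRing.div_surjective (A := Γ(Y, A)) q
  have hb0 : algebraMap Γ(Y, A) Y.functionField b ≠ 0 :=
    IsFractionRing.to_map_ne_zero_of_mem_nonZeroDivisors hb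
  have ha0 : algebraMap Γ(Y, A) Y.functionField a ≠ 0 := fun h => hq (by rw [← hab, h, zero_div])
  have hη : genericPoint Y ∈ A := ((genericPoint_spec Y).mem_open_set_iff A.isOpen).2 ⟨p, trivial, hpA⟩
  let G : Set Y := (Y.basicOpen a : Set Y) ∩ Y.basicOpen b
  have hηG : genericPoint Y ∈ G := ⟨(Scheme.mem_basicOpen Y a _ hη).2 (isUnit_iff_ne_zero.2 ha0),
    (Scheme.mem_basicOpen Y b _ hη).2 (isUnit_iff_ne_zero.2 hb0)⟩
  set S := (A : Set Y) \ G
  set bad := {y : Y | y ∈ A ∧ Order.coheight y = 1 ∧ Scheme.ord q y ≠ 0}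
  haveI : IsNoetherianRing Γ(Y, A) := IsLocallyNoetherian.component_noetherian ⟨A, hA⟩
  haveI : NoetherianSpace ↥(A : Set Y) := by
    rw [← hA.range_fromSpec]; exact NoetherianSpace.range _ hA.fromSpec.continuous
  haveI : NoetherianSpace ↥S :=
    (noetherianSpace_set_iff _).mpr fun t ht =>
      (noetherianSpace_set_iff (A : Set Y)).mp inferInstance t (ht.trans Set.diff_subset)
  have hbadS : ∀ y ∈ bad, y ∈ S := fun y hy => ⟨hy.1, fun hG => hy.2.2 (by
    have hua : IsUnit (Y.presheaf.germ A y hy.1 a) := (Scheme.mem_basicOpen Y a y hy.1).1 hG.1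
    have hub : IsUnit (Y.presheaf.germ A y hy.1 b) := (Scheme.mem_basicOpen Y b y hy.1).1 hG.2
    haveI : Ring.KrullDimLE 1 (Y.presheaf.stalk y) := krullDimLE_of_coheight_le hy.2.1.le
    have hy1 : Order.coheight y = 1 := hy.2.1
    have hyA : y ∈ A := hy.1
    refine (Scheme.ord_eq_iff hy1 hq).2 ?_
    rw [← hab]
    show Scheme.ordHom y hy1 (Y.germToFunctionField A a / Y.germToFunctionField A b) = _
    rw [← Scheme.algebraMap_germ_eq_germToFunctionField (X := Y) hyA a, ← Scheme.algebraMap_germ_eq_germToFunctionField (X := Y) hyA b,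
      map_div₀]
    show Ring.ordFrac (Y.presheaf.stalk y) _ / Ring.ordFrac (Y.presheaf.stalk y) _ = _
    rw [Ring.ordFrac_of_isUnit hua, Ring.ordFrac_of_isUnit hub]
    simp)⟩
  have hcl : ∀ (w : Y) (y : Y), y ∈ bad → w ⤳ y → w ∈ closure S → w = y := by
    intro w y hy hwy hw
    have hwA : w ∈ A := hwy.mem_open A.isOpen hy.1
    have hwG : w ∉ G := fun hG => by
      obtain ⟨z, hz, hzS⟩ := mem_closure_iff.1 hw G ((Y.basicOpen a).isOpen.inter (Y.basicOpen b).isOpen) hG
      exact hzS.2 hz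
    by_contra hne
    have hwη : genericPoint Y ≠ w := fun h => hwG (h ▸ hηG)
    have hlt1 : y < w := lt_iff_le_not_ge.mpr ⟨hwy, fun h => hne (Specializes.antisymm hwy (h : y ⤳ w)).eq⟩
    have hlt2 : w < genericPoint Y := lt_iff_le_not_ge.mpr
      ⟨(genericPoint_spec Y).specializes trivial, fun h => hwη
        ((Specializes.antisymm ((genericPoint_spec Y).specializes trivial) (h : w ⤳ genericPoint Y)).eq)⟩
    have h2 := Order.coheight_add_one_le hlt1
    have h3 := Order.coheight_add_one_le hlt2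
    rw [hy.2.1] at h2
    have h4 : (1 : ℕ∞) ≤ Order.coheight w := le_trans le_add_self h3
    have h5 : (1 : ℕ∞) + 1 ≤ 1 := le_trans (add_le_add h4 le_rfl) h2
    exact absurd h5 (by norm_num)
  have hmem : ∀ y : bad, closure ({⟨y.1, hbadS y.1 y.2⟩} : Set ↥S) ∈ irreducibleComponents ↥S := by
    rintro ⟨y, hy⟩
    refine ⟨isIrreducible_singleton.closure, fun C hC hle => ?_⟩
    have hirr : IsIrreducible (Subtype.val '' C : Set Y) := hC.image _ continuous_subtype_val.continuousOn
    obtain ⟨w, hw⟩ := QuasiSober.sober hirr.closure isClosed_closure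
    have hyC : y ∈ closure (Subtype.val '' C : Set Y) :=
      subset_closure ⟨⟨y, hbadS y hy⟩, hle (subset_closure rfl), rfl⟩
    have hwS : w ∈ closure S := closure_mono (by rintro _ ⟨c, -, rfl⟩; exact c.2) hw.mem
    have hwy' : w = y := hcl w y hy (hw.specializes hyC) hwS
    intro c hc
    rw [closure_subtype, Set.image_singleton, ← specializes_iff_mem_closure]
    exact hwy' ▸ hw.specializes (subset_closure ⟨c, hc, rfl⟩)
  haveI : Finite ↥(irreducibleComponents ↥S) := NoetherianSpace.finite_irreducibleComponents.to_subtype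
  refine Set.finite_coe_iff.mp (Finite.of_injective (fun y : bad => (⟨_, hmem y⟩ : irreducibleComponents ↥S)) ?_)
  intro y z h
  have h' := congrArg Subtype.val h
  have := IsGenericPoint.eq (isGenericPoint_closure : IsGenericPoint (⟨y.1, hbadS y.1 y.2⟩ : ↥S) _)
    (show IsGenericPoint (⟨z.1, hbadS z.1 z.2⟩ : ↥S) _ from h'.symm)
  exact Subtype.ext (congrArg (fun s : ↥S => (s : Y)) this)

/-- finite divisors are locally principal on a regular scheme -/
theorem exists_local_equation_sum (hY : Pi1.IsNormalScheme Y) (hU : ∀ x : Y, UniqueFactorizationMonoid (Y.presheaf.stalk x))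
    (T : Finset Y) (hT : ∀ t ∈ T, Order.coheight t = 1) (n : Y → ℤ) (p : Y) :
    ∃ (U : Y.Opens) (f : CDiv.KUnits Y), p ∈ U ∧ ∀ y ∈ U, Order.coheight y = 1 →
      (y ∈ T → Scheme.ord (f : Y.functionField) y = n y) ∧ (y ∉ T → Scheme.ord (f : Y.functionField) y = 0) := by
  classical
  induction T using Finset.induction_on with
  | empty =>
    refine ⟨⊤, 1, trivial, fun y _ hy => ⟨fun h => absurd h (Finset.notMem_empty y), fun _ => ?_⟩⟩
    have := CDiv6.ord_div_unit (X := Y) 1 1 y
    rw [div_self'] at this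
    omega
  | @insert t T htT ih =>
    obtain ⟨U, f, hpU, hf⟩ := ih fun x hx => hT x (Finset.mem_insert_of_mem hx)
    obtain ⟨U', g, hpU', hg⟩ := CDiv6.exists_local_equation hY hU t (hT t (Finset.mem_insert_self t T)) p
    have hpow : ∀ (m : ℤ) (y : Y), Scheme.ord ((g ^ m : CDiv.KUnits Y) : Y.functionField) y =
        m * Scheme.ord (g : Y.functionField) y := by
      intro m y
      induction m with
      | zero =>
        have := CDiv6.ord_div_unit (X := Y) 1 1 y
        rw [div_self'] at this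
        rw [zpow_zero, zero_mul]
        omega
      | succ i ih => rw [zpow_add_one, Units.val_mul, Scheme.ord_mul (Units.ne_zero _) g.ne_zero, ih]; ring
      | pred i ih =>
        rw [zpow_sub_one, ← div_eq_mul_inv, CDiv6.ord_div_unit, ih]
        ring
    refine ⟨U ⊓ U', f * g ^ n t, ⟨hpU, hpU'⟩, fun y hy hy1 => ?_⟩
    have hsum : Scheme.ord ((f * g ^ n t : CDiv.KUnits Y) : Y.functionField) y =
        Scheme.ord (f : Y.functionField) y + n t * Scheme.ord (g : Y.functionField) y := by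
      rw [Units.val_mul, Scheme.ord_mul f.ne_zero (Units.ne_zero _), hpow]
    obtain ⟨f1, f2⟩ := hf y hy.1 hy1
    obtain ⟨g1, g2⟩ := hg y hy.2 hy1
    constructor
    · intro hyT
      rcases Finset.mem_insert.1 hyT with h | h
      · rw [hsum, f2 (h ▸ htT), g1 h, h]; ring
      · rw [hsum, f1 h, g2 (fun e => htT (e ▸ h))]; ring
    · intro hyT
      rw [Finset.mem_insert, not_or] at hyT
      rw [hsum, f2 hyT.2, g2 hyT.1]; ring

end Integral

variable {X : Scheme.{u}} [IsLocallyNoetherian X] [FactStalks X] [IsIntegral X]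

theorem ufd_left (V : X.Etale) (x : V.left) : UniqueFactorizationMonoid (V.left.presheaf.stalk x) :=
  (FactStalks.out V x).2

/-- divisors of functions on the generic fibre are locally finitely supported -/
theorem locally_finite_divMap (V : X.Etale) (f : (jGm X).obj.obj (op V)) (p : V.left) :
    ∃ U : V.left.Opens, p ∈ U ∧ {v : Pts (P1 X) V | v.1 ∈ U ∧ divMap.hom.app (op V) f v ≠ 0}.Finite := by
  obtain ⟨W, hp, hW⟩ := exists_integral_nhd V p
  let V₁ := EtTorLib.openObj V W
  let g₁ := EtTorLib.openHom V W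
  haveI : IsIntegral V₁.left := hW
  let f₁ := (jGm X).obj.map g₁.op f
  obtain ⟨A, hpA, hA⟩ := exists_finite_ord (ρ V₁ (Additive.toMul (ULift.down f₁)).1) (⟨p, hp⟩ : V₁.left)
  refine ⟨W.ι ''ᵁ A, ⟨⟨p, hp⟩, hpA, rfl⟩, ?_⟩
  refine ((hA.image fun y : V₁.left => g₁.left.base y).preimage Subtype.val_injective.injOn).subset ?_
  rintro v ⟨⟨y, hy, hyv⟩, hne⟩
  have hy1 : Order.coheight y = 1 := by
    refine (coheight_hom V₁ y).symm.trans ?_
    refine (congrArg Order.coheight ((hom_base g₁ y).symm.trans (congrArg (fun z => V.hom.base z) hyv))).trans ?_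
    exact v.2
  refine ⟨y, ⟨hy, hy1, fun h0 => hne ?_⟩, hyv⟩
  let y' : Pts (P1 X) V₁ := ⟨y, (coheight_hom V₁ y).trans hy1⟩
  have h1 := congrFun (NatTrans.naturality_apply divMap.hom g₁.op f) y'
  have h2 : v = mapPts (P1 X) g₁ y' := Subtype.ext hyv.symm
  rw [h2]
  exact h1.symm.trans (ULift.ext _ _ ((ordAt_eq_ord V₁ y' _).trans h0))

/-- locally finitely supported families are locally divisors -/
theorem locally_divMap (V : X.Etale) (s : (ptFun (P1 X)).obj.obj (op V)) (p : V.left)
    (hs : ∃ U : V.left.Opens, p ∈ U ∧ {v : Pts (P1 X) V | v.1 ∈ U ∧ s v ≠ 0}.Finite) :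
    ∃ (V' : X.Etale) (g : V' ⟶ V) (v : V'.left) (f : (jGm X).obj.obj (op V')),
      divMap.hom.app (op V') f = (ptFun (P1 X)).obj.map g.op s ∧ g.left.base v = p := by
  classical
  obtain ⟨U₀, hpU₀, hfin⟩ := hs
  obtain ⟨W, hp, hW⟩ := exists_integral_nhd V p
  let V₁ := EtTorLib.openObj V W
  let g₁ := EtTorLib.openHom V W
  haveI : IsIntegral V₁.left := hW
  let p₁ : V₁.left := ⟨p, hp⟩
  let n : V₁.left → ℤ := fun y => if h : V₁.hom.base y ∈ P1 X then (s (mapPts (P1 X) g₁ ⟨y, h⟩)).down else 0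
  have hfin₁ : {y : V₁.left | g₁.left.base y ∈ U₀ ∧ n y ≠ 0}.Finite := by
    refine ((hfin.image Subtype.val).preimage (W.ι.isOpenEmbedding.injective.injOn)).subset ?_
    rintro y ⟨hy, hn⟩
    by_cases h : V₁.hom.base y ∈ P1 X
    · simp only [n, dif_pos h] at hn
      exact ⟨mapPts (P1 X) g₁ ⟨y, h⟩, ⟨hy, fun h0 => hn (by rw [h0]; rfl)⟩, rfl⟩
    · exact absurd (dif_neg h) hn
  have hT : ∀ t ∈ hfin₁.toFinset, Order.coheight t = 1 := fun t ht => by
    have hn := (hfin₁.mem_toFinset.1 ht).2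
    by_cases h : V₁.hom.base t ∈ P1 X
    · rw [← coheight_hom]; exact h
    · exact absurd (dif_neg h) hn
  obtain ⟨U, q, hpU, hq⟩ := exists_local_equation_sum (isNormal V₁) (ufd_left V₁) hfin₁.toFinset hT n p₁
  obtain ⟨A, hA, hpA, hAU⟩ := exists_isAffineOpen_mem_and_subset
    (U := U ⊓ (g₁.left ⁻¹ᵁ U₀)) (x := p₁) ⟨hpU, hpU₀⟩
  haveI : Nonempty A := ⟨⟨p₁, hpA⟩⟩
  haveI := functionField_isFractionRing_of_isAffineOpen V₁.left A hA
  obtain ⟨a, b, hb, hab⟩ := IsFractionRing.div_surjective (A := Γ(V₁.left, A)) (q : V₁.left.functionField)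
  let V' := EtTorLib.openObj V₁ A
  let g := EtTorLib.openHom V₁ A
  haveI : IsIntegral V'.left := inferInstanceAs (IsIntegral (A : Scheme.{u}))
  have htop : (g.left ⁻¹ᵁ A) = ⊤ := A.ι_preimage_self
  have hη : genericPoint V₁.left ∈ A := ((genericPoint_spec V₁.left).mem_open_set_iff A.isOpen).2
    ⟨p₁, trivial, hpA⟩
  have hη' : genericPoint V'.left ∈ g.left ⁻¹ᵁ A := htop ▸ trivial
  let res : Γ(V₁.left, A) →+* Γ(V'.left, ⊤) := (g.left.appLE A ⊤ htop.ge).hom
  have hres : ∀ c : Γ(V₁.left, A), V'.left.presheaf.germ ⊤ (genericPoint V'.left) trivial (res c) =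
      funMap g (algebraMap Γ(V₁.left, A) V₁.left.functionField c) := fun c => by
    refine Eq.trans ?_ (funMap_germ g A hη hη' c).symm
    show V'.left.presheaf.germ ⊤ _ trivial ((g.left.appLE A ⊤ htop.ge) c) = _
    rw [Scheme.Hom.appLE, CommRingCat.comp_apply, TopCat.Presheaf.germ_res_apply]
  have hb0 : algebraMap Γ(V₁.left, A) V₁.left.functionField b ≠ 0 :=
    IsFractionRing.to_map_ne_zero_of_mem_nonZeroDivisors hb
  have ha0 : algebraMap Γ(V₁.left, A) V₁.left.functionField a ≠ 0 := fun h => q.ne_zero (by rw [← hab, h, zero_div])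
  have hua := isUnit_fst_of_germ_ne_zero V' (res a) (by rw [hres]; exact (map_ne_zero (funMap g)).2 ha0)
  have hub := isUnit_fst_of_germ_ne_zero V' (res b) (by rw [hres]; exact (map_ne_zero (funMap g)).2 hb0)
  let f : (Γ(((EtCoh.bc (etaHom X)).obj V').left, ⊤))ˣ := hua.unit * hub.unit⁻¹
  have hρ : ρ V' f.1 = funMap g (q : V₁.left.functionField) := by
    rw [← hab, map_div₀, ← hres, ← hres, eq_div_iff (by rw [hres]; exact (map_ne_zero (funMap g)).2 hb0),
      ← ρ_fst, ← ρ_fst, ← map_mul]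
    congr 1
    show hua.unit.1 * hub.unit⁻¹.1 * hub.unit.1 = _
    rw [mul_assoc, Units.inv_mul, mul_one]
    rfl
  refine ⟨V', g ≫ g₁, ⟨p₁, hpA⟩, ULift.up (Additive.ofMul f), funext fun v => ULift.ext _ _ ?_, rfl⟩
  refine (ordAt_eq_ord V' v f).trans ?_
  rw [hρ, ord_funMap g v _ q.ne_zero]
  let y := mapPts (P1 X) g v
  have hy : y.1 ∈ A := v.1.2
  have hy1 : Order.coheight y.1 = 1 := (coheight_hom V₁ y.1).symm.trans y.2
  obtain ⟨h1, h2⟩ := hq y.1 (hAU hy).1 hy1
  have hn : n y.1 = (s (mapPts (P1 X) g₁ y)).down := dif_pos y.2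
  show Scheme.ord (q : V₁.left.functionField) y.1 = (s (mapPts (P1 X) g₁ y)).down
  rw [← hn]
  by_cases hmem : y.1 ∈ hfin₁.toFinset
  · exact h1 hmem
  · rw [h2 hmem]
    by_contra hne
    exact hmem (hfin₁.mem_toFinset.2 ⟨(hAU hy).2, Ne.symm hne⟩)

end Groth.Agent.GmSeq
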