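import Groth.Agent.GmSeq.Component

/-! rational functions along etale maps of integral schemes -/

universe u

open CategoryTheory CategoryTheory.Limits AlgebraicGeometry Opposite IsLocalRing

namespace Groth.Agent.GmSeq

set_option autoImplicit false
set_option maxHeartbeats 1000000
set_option synthInstance.maxHeartbeats 400000
set_option backward.isDefEq.respectTransparency false
set_option backward.isDefEq.respectTransparency.types false
set_option linter.style.haveILetI false

variable {X : Scheme.{u}} [IsLocallyNoetherian X] [FactStalks X] [IsIntegral X]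
variable {V' V : X.Etale} [IsIntegral V.left] [IsIntegral V'.left] (g : V' ⟶ V)

theorem map_genericPoint : g.left.base (genericPoint V'.left) = genericPoint V.left := by
  have h0 : Order.coheight (g.left.base (genericPoint V'.left)) = 0 := by
    rw [← coheight_hom, hom_base g, hom_genericPoint]
    exact Order.coheight_eq_zero.2 fun b _ => (genericPoint_spec X).specializes trivial
  rw [Order.coheight_eq_zero] at h0
  have hle : genericPoint V.left ⤳ g.left.base (genericPoint V'.left) := (genericPoint_spec V.left).specializes trivial
  have hge : g.left.base (genericPoint V'.left) ⤳ genericPoint V.left := h0 hle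
  exact (hge.antisymm hle).eq

/-- pull back of rational functions -/
noncomputable def funMap : V.left.functionField →+* V'.left.functionField :=
  (V.left.presheaf.stalkSpecializes (specializes_of_eq (map_genericPoint g)) ≫
    g.left.stalkMap (genericPoint V'.left)).hom

theorem funMap_germ (U : V.left.Opens) (hU : genericPoint V.left ∈ U)
    (hU' : genericPoint V'.left ∈ g.left ⁻¹ᵁ U) (s : Γ(V.left, U)) :
    funMap g (V.left.presheaf.germ U (genericPoint V.left) hU s) =
      V'.left.presheaf.germ (g.left ⁻¹ᵁ U) (genericPoint V'.left) hU' (g.left.app U s) := by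
  show g.left.stalkMap _ (V.left.presheaf.stalkSpecializes _ (V.left.presheaf.germ U _ hU s)) = _
  rw [TopCat.Presheaf.germ_stalkSpecializes_apply, Scheme.Hom.germ_stalkMap_apply]

theorem ρ_map (f : Γ(((EtCoh.bc (etaHom X)).obj V).left, ⊤)) :
    ρ V' (((EtCoh.bc (etaHom X)).map g).left.appTop f) = funMap g (ρ V f) := by
  have h := @valRing_map X _ _ _ V' V g (genericPoint V'.left) (genericPoint V.left) (map_genericPoint g)
    V.left.functionField _ (stalkFunctionFieldAlgebra V.left _) inferInstance
    V'.left.functionField _ (stalkFunctionFieldAlgebra V'.left _) inferInstance (funMap g) (fun a => ?_) f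
  · exact h
  show funMap g (V.left.presheaf.stalkSpecializes _ a) = V'.left.presheaf.stalkSpecializes _
    (g.left.stalkMap _ (V.left.presheaf.stalkSpecializes _ a))
  rw [show V.left.presheaf.stalkSpecializes ((genericPoint_spec V.left).specializes trivial :
      genericPoint V.left ⤳ genericPoint V.left) = 𝟙 _ from TopCat.Presheaf.stalkSpecializes_refl _ _,
    show V'.left.presheaf.stalkSpecializes ((genericPoint_spec V'.left).specializes trivial :
      genericPoint V'.left ⤳ genericPoint V'.left) = 𝟙 _ from TopCat.Presheaf.stalkSpecializes_refl _ _]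
  rfl

theorem ord_funMap (v' : Pts (P1 X) V') (q : V.left.functionField) (hq : q ≠ 0) :
    Scheme.ord (funMap g q) v'.1 = Scheme.ord q (g.left.base v'.1) := by
  let v := mapPts (P1 X) g v'
  have hv : Order.coheight v.1 = 1 := (coheight_hom V v.1).symm.trans v.2
  have hv' : Order.coheight v'.1 = 1 := (coheight_hom V' v'.1).symm.trans v'.2
  let A := V.left.presheaf.stalk v.1
  let B := V'.left.presheaf.stalk v'.1
  let φ : A →+* B := (V.left.presheaf.stalkSpecializes (specializes_of_eq (rfl : g.left.base v'.1 = v.1)) ≫
    g.left.stalkMap v'.1).hom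
  have he : ∀ a, funMap g (algebraMap A V.left.functionField a) = algebraMap B V'.left.functionField (φ a) := by
    intro a
    show g.left.stalkMap _ (V.left.presheaf.stalkSpecializes _ (V.left.presheaf.stalkSpecializes _ a)) =
      V'.left.presheaf.stalkSpecializes _ (g.left.stalkMap _ (V.left.presheaf.stalkSpecializes _ a))
    rw [← Scheme.Hom.stalkSpecializes_stalkMap_apply, TopCat.Presheaf.stalkSpecializes_comp_apply,
      TopCat.Presheaf.stalkSpecializes_comp_apply]
  have h := ordZ_map A V.left.functionField B V'.left.functionField φ (funMap g) he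
    (fun ϖ hϖ => irreducible_stalkMap g v' v.1 rfl hϖ) (Units.mk0 q hq)
  refine ((Scheme.ord_eq_iff hv' ((map_ne_zero (funMap g)).2 hq)).2 ?_)
  have h2 : ordZ A V.left.functionField (Additive.ofMul (Units.mk0 q hq)) = Scheme.ord q v.1 :=
    (ordZ_eq_iff A _ _ _).2 ((Scheme.ord_eq_iff hv hq).1 rfl)
  exact (ordZ_eq_iff B _ _ _).1 (h.trans h2)

end Groth.Agent.GmSeq
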