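import Groth.Agent.EtFound.Basic
import Groth.Agent.EtTorLib.Sections
import Groth.Agent.EtTorLib.SepAcyclic

/-! sheaves of integer valued functions on sets of points -/

universe u

open CategoryTheory CategoryTheory.Limits AlgebraicGeometry Opposite

namespace Groth.Agent.GmSeq

set_option autoImplicit false
set_option maxHeartbeats 1000000
set_option synthInstance.maxHeartbeats 400000
set_option backward.isDefEq.respectTransparency false
set_option backward.isDefEq.respectTransparency.types false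

variable {X : Scheme.{u}} (P : Set X)

/-- the points of an etale scheme over a set of points of the base -/
abbrev Pts (V : X.Etale) : Type u := {v : V.left // V.hom.base v ∈ P}

theorem hom_base {V' V : X.Etale} (g : V' ⟶ V) (v : V'.left) : V.hom.base (g.left.base v) = V'.hom.base v :=
  ((Scheme.Hom.comp_apply g.left V.hom v).symm.trans (congrArg (fun r => r.base v) (MorphismProperty.Over.w g)))

/-- functoriality of the points -/
def mapPts {V' V : X.Etale} (g : V' ⟶ V) (v : Pts P V') : Pts P V :=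
  ⟨g.left.base v.1, (hom_base g v.1).symm ▸ v.2⟩

/-- the presheaf of integer valued functions on points over `P` -/
noncomputable def ptFunPsh : X.Etaleᵒᵖ ⥤ AddCommGrpCat.{u + 1} where
  obj V := AddCommGrpCat.of (Pts P V.unop → ULift.{u + 1} ℤ)
  map {V V'} g := AddCommGrpCat.ofHom
    { toFun := fun s v => s (mapPts P g.unop v), map_zero' := rfl, map_add' := fun _ _ => rfl }
  map_id V := rfl
  map_comp f g := rfl

theorem exists_common {V V₁ V₂ : X.Etale} (g₁ : V₁ ⟶ V) (g₂ : V₂ ⟶ V) (v₁ : V₁.left) (v₂ : V₂.left)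
    (h : g₁.left.base v₁ = g₂.left.base v₂) :
    ∃ (W : X.Etale) (p₁ : W ⟶ V₁) (p₂ : W ⟶ V₂) (w : W.left),
      p₁ ≫ g₁ = p₂ ≫ g₂ ∧ p₁.left.base w = v₁ ∧ p₂.left.base w = v₂ := by
  haveI : AlgebraicGeometry.Etale g₂.left := EtFound.etale_left g₂
  haveI : AlgebraicGeometry.Etale V₁.hom := V₁.prop
  obtain ⟨w, hw₁, hw₂⟩ := Scheme.Pullback.exists_preimage_pullback (f := g₁.left) (g := g₂.left) v₁ v₂ h
  let W : X.Etale := Scheme.Etale.mk (pullback.fst g₁.left g₂.left ≫ V₁.hom)
  refine ⟨W, MorphismProperty.Over.homMk (pullback.fst g₁.left g₂.left) rfl,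
    MorphismProperty.Over.homMk (pullback.snd g₁.left g₂.left) ?_, w, ?_, hw₁, hw₂⟩
  · show pullback.snd g₁.left g₂.left ≫ V₂.hom = pullback.fst g₁.left g₂.left ≫ V₁.hom
    rw [← MorphismProperty.Over.w g₁, ← MorphismProperty.Over.w g₂, ← pullback.condition_assoc]
  · exact MorphismProperty.Over.Hom.ext pullback.condition

theorem isSheaf_ptFunPsh : Presheaf.IsSheaf X.smallEtaleTopology (ptFunPsh P) := by
  refine (Presheaf.isSheaf_iff_isSheaf_forget _ _ (forget AddCommGrpCat.{u + 1})).2 ?_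
  refine (isSheaf_iff_isSheaf_of_type _ _).2 fun U S hS x hx => ?_
  have hc := (EtFound.mem_topology_iff S).1 hS
  choose W g w hg hw using hc
  have key : ∀ {V : X.Etale} (f : V ⟶ U) (hf : S f) (v : Pts P V) (p : Pts P U), f.left.base v.1 = p.1 →
      ∀ (v₀ : Pts P (W p.1)), v₀.1 = w p.1 → x (g p.1) (hg p.1) v₀ = x f hf v := by
    intro V f hf v p hp v₀ hv₀
    obtain ⟨T, p₁, p₂, t, hcomm, ht₁, ht₂⟩ := exists_common (g p.1) f v₀.1 v.1 (by rw [hv₀, hw, hp])
    have ht : X := T.hom.base t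
    have htP : T.hom.base t ∈ P := by rw [← hom_base p₂ t, ht₂]; exact v.2
    have h := congrFun (hx p₁ p₂ (hg p.1) hf hcomm) (⟨t, htP⟩ : Pts P T)
    have e₁ : mapPts P p₁ ⟨t, htP⟩ = v₀ := Subtype.ext ht₁
    have e₂ : mapPts P p₂ ⟨t, htP⟩ = v := Subtype.ext ht₂
    rw [← e₁, ← e₂]
    exact h
  let lift : ∀ p : Pts P U, Pts P (W p.1) := fun p =>
    ⟨w p.1, by rw [← hom_base (g p.1) (w p.1), hw]; exact p.2⟩
  refine ⟨fun p => x (g p.1) (hg p.1) (lift p), fun V f hf => funext fun v => ?_, fun t ht => funext fun p => ?_⟩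
  · exact key f hf v (mapPts P f v) rfl _ rfl
  · rw [← ht (g p.1) (hg p.1)]
    show t p = t (mapPts P (g p.1) (lift p))
    exact congrArg t (Subtype.ext (hw p.1).symm)

/-- the sheaf of integer valued functions on points over `P` -/
noncomputable def ptFun : EtCoh.Ab X := ⟨ptFunPsh P, isSheaf_ptFunPsh P⟩

end Groth.Agent.GmSeq
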